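import Groth.Agent.Lib.FunFld.Degree
import Groth.Agent.Lib.FunFld.Rational
import Groth.Agent.Lib.FunFld.Riemann
import Mathlib.Algebra.Polynomial.Degree.Lemmas
import Mathlib.RingTheory.IntegralClosure.IsIntegral.Basic
import Mathlib.LinearAlgebra.FiniteDimensional.Basic

/-! Places of bounded degree over a finite constant field. -/

namespace Groth.Agent.Lib.FunFld.Zeta.Points

open IsLocalRing Polynomial
open Groth.Agent.Lib.FunFld

universe u v
variable {k : Type u} {K : Type v} [Field k] [Finite k] [Field K] [Algebra k K]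

omit [Finite k] in
theorem finite_natDegree_le [Finite k] (n : ℕ) : {p : k[X] | p.natDegree ≤ n}.Finite := by
  refine Set.Finite.of_finite_image (f := fun p : k[X] => fun i : Fin (n + 1) => p.coeff i) (Set.toFinite _) ?_
  intro p hp q hq h
  ext i
  rcases le_or_gt i n with hi | hi
  · exact congrFun h ⟨i, by omega⟩
  · rw [coeff_eq_zero_of_natDegree_lt (lt_of_le_of_lt hp hi),
      coeff_eq_zero_of_natDegree_lt (lt_of_le_of_lt hq hi)]

/-- Over a finite field there are finitely many places of bounded degree. -/
theorem finite_deg_le (hK : FunFld.IsFunctionField k K) (n : ℕ) :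
    {P : _root_.FunFld.Place k K | P.deg ≤ n}.Finite := by
  classical
  obtain ⟨x, hx⟩ := Riemann.exists_transcendental hK
  have hfin : ({P : _root_.FunFld.Place k K | P.ord x < 0} ∪
      ⋃ p ∈ {p : k[X] | p.natDegree ≤ n}, {P : _root_.FunFld.Place k K | 0 < P.ord (aeval x p)}).Finite := by
    refine Set.Finite.union ?_ ((finite_natDegree_le n).biUnion fun p _ => Degree.finite_zeros hK _)
    refine (Degree.finite_support_ord hK x).subset fun P hP => ?_
    simp only [Set.mem_ofPred_eq] at hP
    simp only [Function.mem_support]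
    omega
  refine hfin.subset fun P hP => ?_
  rcases lt_or_ge (P.ord x) 0 with h | h
  · exact Or.inl h
  refine Or.inr ?_
  have hfd : Module.Finite k (ResidueField P.O) := Existence.finiteDimensional_residueField hK P
  let z : P.O := ⟨x, (Place.val_le_one_iff P).mpr h⟩
  have hint : IsIntegral k (residue P.O z) := by
    have : Algebra.IsIntegral k (ResidueField P.O) :=
      @Algebra.IsIntegral.of_finite k (ResidueField P.O) _ _ _ hfd
    exact Algebra.IsIntegral.isIntegral _
  set p := minpoly k (residue P.O z)
  have hp : p.natDegree ≤ n := le_trans (@minpoly.natDegree_le k _ _ _ _ hfd (residue P.O z) _) hP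
  have hne : aeval x p ≠ 0 := fun h0 => minpoly.ne_zero hint (by
    by_contra hne'
    exact hx ⟨p, hne', h0⟩)
  have hz : residue P.O (aeval z p) = 0 := by
    have h1 : residue P.O (aeval z p) = aeval (residue P.O z) p := by
      rw [aeval_def, aeval_def, hom_eval₂]
      rfl
    rw [h1, minpoly.aeval]
  have hval : ((aeval z p : P.O) : K) = aeval x p := by
    rw [aeval_def, aeval_def, ← ValuationSubring.coe_subtype, hom_eval₂]
    rfl
  refine Set.mem_biUnion (show p ∈ {p : k[X] | p.natDegree ≤ n} from hp) ?_
  exact (Place.ord_pos_iff P).mpr ⟨hne, hval ▸ (Place.res_eq_zero_iff P _).mp hz⟩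

theorem finite_dvd (hK : FunFld.IsFunctionField k K) {m : ℕ} (hm : 0 < m) :
    {P : _root_.FunFld.Place k K | P.deg ∣ m}.Finite :=
  (finite_deg_le hK m).subset fun _ h => Nat.le_of_dvd hm h

variable (k K) in
open scoped Classical in
/-- The number of rational points over the extension of degree `m`. -/
noncomputable def Npts (m : ℕ) : ℕ :=
  if h : {P : _root_.FunFld.Place k K | P.deg ∣ m}.Finite then ∑ P ∈ h.toFinset, P.deg else 0

theorem Npts_eq (hK : FunFld.IsFunctionField k K) {m : ℕ} (hm : 0 < m) :
    Npts k K m = ∑ P ∈ (finite_dvd hK hm).toFinset, P.deg := by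
  rw [Npts, dif_pos]

theorem Npts_one (hK : FunFld.IsFunctionField k K) :
    Npts k K 1 = Nat.card {P : _root_.FunFld.Place k K // P.deg = 1} := by
  classical
  rw [Npts_eq hK one_pos]
  have h1 : ∀ P ∈ (finite_dvd hK (m := 1) one_pos).toFinset, P.deg = 1 := fun P hP =>
    Nat.eq_one_of_dvd_one (by simpa only [Set.Finite.mem_toFinset, Set.mem_ofPred_eq] using hP)
  rw [Finset.sum_congr rfl h1, Finset.sum_const, smul_eq_mul, mul_one,
    ← Set.ncard_eq_toFinset_card _ (finite_dvd hK (m := 1) one_pos), ← Nat.card_coe_set_eq]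
  exact Nat.card_congr (Equiv.subtypeEquivRight fun P => Nat.dvd_one)

end Groth.Agent.Lib.FunFld.Zeta.Points
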