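import Groth.Agent.Lib.FunFld.Zeta.Bound
import Groth.Agent.Lib.FunFld.Zeta.Points
import Groth.Agent.Lib.FunFld.Auto

/-! Frobenius-fixed places and places of degree dividing `m`; the Hasse–Weil estimate. -/

namespace Groth.Agent.Lib.FunFld.Zeta.Count

open WithZero IsLocalRing
open Groth.Agent.Lib.FunFld Groth.Agent.Lib.FunFld.Zeta

universe u v w z
variable {k : Type u} {K : Type v} {kb : Type w} {Kb : Type z} [Field k] [Finite k] [Field K] [Field kb]
  [Field Kb] [Algebra k K] [Algebra k kb] [IsAlgClosure k kb] [Algebra K Kb] [Algebra kb Kb]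
  [Algebra k Kb] [IsScalarTower k K Kb] [IsScalarTower k kb Kb]

omit [Algebra k K] [Algebra K Kb] [Algebra kb Kb] [Algebra k Kb] [IsScalarTower k K Kb]
  [IsScalarTower k kb Kb] [Field Kb] [Field K] [IsAlgClosure k kb] in
theorem pow_q_injective (m : ℕ) : Function.Injective fun c : kb => c ^ (Nat.card k ^ m) := by
  have := Fintype.ofFinite k
  obtain ⟨e, hp, he⟩ := FiniteField.card k (ringChar k)
  have : Fact (ringChar k).Prime := ⟨hp⟩
  have : CharP kb (ringChar k) := charP_of_injective_algebraMap (algebraMap k kb).injective _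
  intro a b h
  refine iterateFrobenius_inj kb (ringChar k) (e * m) ?_
  simp only [iterateFrobenius_def]
  rw [pow_mul, ← he, ← Nat.card_eq_fintype_card]
  exact h

/-- A place above `P` is fixed by the `m`-th power exactly when `deg P ∣ m`. -/
theorem mem_fixedSet_iff (hK : FunFld.IsFunctionField k K)
    (hgen : Algebra.adjoin K (Set.range (algebraMap kb Kb)) = ⊤) (σ : Kb ≃ₐ[K] Kb)
    (hσ : ∀ c : kb, σ (algebraMap kb Kb c) = algebraMap kb Kb c ^ Nat.card k) (m : ℕ)
    {Q : _root_.FunFld.Place kb Kb} {P : _root_.FunFld.Place k K} (h : Places.Below Q P) :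
    Q ∈ Twist.fixedSet (kb := kb) (σ ^ m).toRingEquiv ↔ P.deg ∣ m := by
  have : IsAlgClosed kb := IsAlgClosure.isAlgClosed k
  have hKb := Bar.isFunctionField_bar (kb := kb) (Kb := Kb) hK hgen
  rw [Twist.mem_fixedSet_iff _ (Places.isTwist_pow σ hσ m)]
  constructor
  · intro he
    refine (Places.pow_eq_iff hK P m).mp fun x => (Places.emb hKb h).injective ?_
    rw [map_pow]
    have h1 := Places.emb_pull σ hKb hσ h m x
    have h2 : ∀ (Q' : _root_.FunFld.Place kb Kb) (h' : Places.Below Q' P), Q' = Q →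
        Places.emb hKb h' x = Places.emb hKb h x := by rintro Q' h' rfl; rfl
    rw [h2 _ _ he] at h1
    exact h1.symm
  · intro hd
    refine Places.eq_of_emb_eq σ hK hgen hKb hσ (Places.below_pull σ hσ h m) h (AlgHom.ext fun x => ?_)
    refine pow_q_injective (k := k) m ?_
    change _ ^ _ = _ ^ _
    rw [← Places.emb_pull σ hKb hσ h m x, ← map_pow, (Places.pow_eq_iff hK P m).mpr hd x]

theorem finite_below (hK : FunFld.IsFunctionField k K)
    (hgen : Algebra.adjoin K (Set.range (algebraMap kb Kb)) = ⊤) (σ : Kb ≃ₐ[K] Kb)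
    (hσ : ∀ c : kb, σ (algebraMap kb Kb c) = algebraMap kb Kb c ^ Nat.card k)
    (P : _root_.FunFld.Place k K) :
    {Q : _root_.FunFld.Place kb Kb | Places.Below Q P}.Finite ∧
      {Q : _root_.FunFld.Place kb Kb | Places.Below Q P}.ncard = P.deg := by
  have : IsAlgClosed kb := IsAlgClosure.isAlgClosed k
  have hKb := Bar.isFunctionField_bar (kb := kb) (Kb := Kb) hK hgen
  have := Existence.finiteDimensional_residueField hK P
  have : Finite (ResidueField P.O) := Module.finite_of_finite k
  let F : {Q : _root_.FunFld.Place kb Kb | Places.Below Q P} → (ResidueField P.O →ₐ[k] kb) :=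
    fun Q => Places.emb hKb Q.2
  have hb : Function.Bijective F := by
    refine ⟨fun a b h => Subtype.ext (Places.eq_of_emb_eq σ hK hgen hKb hσ a.2 b.2 h), fun ι => ?_⟩
    obtain ⟨Q, h, he⟩ := Places.exists_emb_eq σ hK hgen hKb hσ P ι
    exact ⟨⟨Q, h⟩, he⟩
  have : Finite {Q : _root_.FunFld.Place kb Kb | Places.Below Q P} := Finite.of_injective F hb.1
  refine ⟨Set.toFinite _, ?_⟩
  rw [← Nat.card_coe_set_eq, Nat.card_eq_of_bijective F hb, Nat.card_eq_fintype_card,
    AlgHom.card k (ResidueField P.O) kb]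
  rfl

theorem ncard_fixedSet (hK : FunFld.IsFunctionField k K)
    (hgen : Algebra.adjoin K (Set.range (algebraMap kb Kb)) = ⊤) (σ : Kb ≃ₐ[K] Kb)
    (hσ : ∀ c : kb, σ (algebraMap kb Kb c) = algebraMap kb Kb c ^ Nat.card k) {m : ℕ} (hm : 0 < m) :
    (Twist.fixedSet (kb := kb) (σ ^ m).toRingEquiv).ncard = Points.Npts k K m := by
  classical
  have hfd := finite_below (kb := kb) (Kb := Kb) hK hgen σ hσ
  have hset : Twist.fixedSet (kb := kb) (σ ^ m).toRingEquiv =
      ↑((Points.finite_dvd hK hm).toFinset.biUnion fun P => (hfd P).1.toFinset) := by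
    ext Q
    simp only [Finset.coe_biUnion, Set.mem_iUnion, Set.Finite.coe_toFinset, Set.mem_ofPred_eq]
    constructor
    · intro hQ
      obtain ⟨P, hP⟩ := Places.exists_below (k := k) hK hgen Q
      exact ⟨P, (mem_fixedSet_iff hK hgen σ hσ m hP).mp hQ, hP⟩
    · rintro ⟨P, hd, hP⟩
      exact (mem_fixedSet_iff hK hgen σ hσ m hP).mpr hd
  rw [hset, Set.ncard_coe_finset, Points.Npts_eq hK hm, Finset.card_biUnion]
  · refine Finset.sum_congr rfl fun P _ => ?_
    rw [← Set.ncard_eq_toFinset_card _ (hfd P).1, (hfd P).2]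
  · intro P _ P' _ hne
    refine Finset.disjoint_left.mpr fun Q h h' => hne ?_
    simp only [Set.Finite.mem_toFinset, Set.mem_ofPred_eq] at h h'
    exact Places.below_unique h h'

omit kb Kb in
/-- The Hasse–Weil estimate, up to the constant. -/
theorem exists_bound_Npts {k : Type u} {K : Type v} [Field k] [Finite k] [Field K] [Algebra k K]
    (hK : FunFld.IsFunctionField k K) :
    ∃ C : ℝ, ∀ m : ℕ, 0 < m →
      |(Points.Npts k K m : ℝ) - ((Nat.card k : ℝ) ^ m + 1)| ≤ C * Real.sqrt ((Nat.card k : ℝ) ^ m) := by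
  classical
  let Ω := AlgebraicClosure K
  let kb : IntermediateField k Ω := algebraicClosure k Ω
  let Kb : IntermediateField K Ω := IntermediateField.adjoin K (kb : Set Ω)
  let _ : Algebra kb Kb :=
    (kb.val.toRingHom.codRestrict Kb fun c => IntermediateField.subset_adjoin K _ c.2).toAlgebra
  have : IsScalarTower k kb Kb := IsScalarTower.of_algebraMap_eq fun c => Subtype.ext rfl
  have hgen : Algebra.adjoin K (Set.range (algebraMap kb Kb)) = ⊤ := by
    have halg : ∀ z ∈ (kb : Set Ω), IsAlgebraic K z := fun z _ => Algebra.IsAlgebraic.isAlgebraic z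
    apply Subalgebra.map_injective (f := Kb.val) Subtype.val_injective
    rw [AlgHom.map_adjoin, Algebra.map_top, ← AlgHom.fieldRange_toSubalgebra,
      IntermediateField.fieldRange_val,
      IntermediateField.adjoin_toSubalgebra_of_isAlgebraic halg, ← Set.range_comp]
    congr 1
    exact Set.ext fun z => ⟨fun ⟨c, hc⟩ => hc ▸ c.2, fun h => ⟨⟨z, h⟩, rfl⟩⟩
  obtain ⟨σ, hσ⟩ := Places.exists_frob (kb := kb) (Kb := Kb) hK hgen
  obtain ⟨C, hC⟩ := Bound.exists_bound hK hgen σ hσ
  exact ⟨C, fun m hm => ncard_fixedSet hK hgen σ hσ hm ▸ (hC m hm).2⟩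

end Groth.Agent.Lib.FunFld.Zeta.Count
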