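import Groth.Prelude.Def_W4bk4goldsch45
import Groth.Agent.Lib.FunFld.Zeta.Count
import Groth.Agent.Lib.FunFld.SmallGenus
import Mathlib.GroupTheory.QuotientGroup.Basic
import Mathlib.NumberTheory.LucasLehmer

/-! Divisor classes over a finite field, `δ = 1`, and the functional equation of the zeta series. -/

namespace Groth.Agent.Lib.FunFld.Zeta.Basic

open Groth.Agent.Lib.FunFld Groth.Agent.Lib.FunFld.Degree

universe u v
variable {k : Type u} {K : Type v} [Field k] [Field K] [Algebra k K]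

local notation "Pl" => _root_.FunFld.Place k K
local notation "Dv" => _root_.FunFld.Divisor k K

theorem degHom_apply (D : Dv) : _root_.FunFld.degHom k K D = D.deg := rfl

theorem div_zero' (hK : FunFld.IsFunctionField k K) : _root_.FunFld.div k (0 : K) = 0 :=
  Finsupp.ext fun P => by rw [div_apply hK]; simp [_root_.FunFld.Place.ord]

theorem mem_prinDivs (hK : FunFld.IsFunctionField k K) {D : Dv} :
    D ∈ _root_.FunFld.prinDivs k K ↔ ∃ x : K, x ≠ 0 ∧ D = _root_.FunFld.div k x := by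
  refine ⟨fun h => ?_, ?_⟩
  · induction h using AddSubgroup.closure_induction with
    | mem y hy =>
      obtain ⟨x, rfl⟩ := hy
      rcases eq_or_ne x 0 with rfl | hx
      · exact ⟨1, one_ne_zero, by
          rw [div_zero' hK, ← map_one (algebraMap k K), SmallGenus.div_algebraMap hK]⟩
      · exact ⟨x, hx, rfl⟩
    | zero => exact ⟨1, one_ne_zero, by rw [← map_one (algebraMap k K), SmallGenus.div_algebraMap hK]⟩
    | add a b _ _ ha hb =>
      obtain ⟨x, hx, rfl⟩ := ha
      obtain ⟨y, hy, rfl⟩ := hb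
      exact ⟨x * y, mul_ne_zero hx hy, (div_mul hK hx hy).symm⟩
    | neg a _ ha =>
      obtain ⟨x, hx, rfl⟩ := ha
      exact ⟨x⁻¹, inv_ne_zero hx, (div_inv hK x).symm⟩
  · rintro ⟨x, -, rfl⟩
    exact AddSubgroup.subset_closure ⟨x, rfl⟩

variable (k K) in
/-- Divisor classes. -/
abbrev Cl := Dv ⧸ _root_.FunFld.prinDivs k K

theorem mk_eq_mk (hK : FunFld.IsFunctionField k K) {D E : Dv} :
    (QuotientAddGroup.mk D : Cl k K) = QuotientAddGroup.mk E ↔
      ∃ x : K, x ≠ 0 ∧ E = D + _root_.FunFld.div k x := by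
  rw [QuotientAddGroup.eq, mem_prinDivs hK]
  exact exists_congr fun x => and_congr_right fun _ => neg_add_eq_iff_eq_add

/-- The degree of a class. -/
noncomputable def degQ (hK : FunFld.IsFunctionField k K) : Cl k K →+ ℤ :=
  QuotientAddGroup.lift _ (_root_.FunFld.degHom k K) fun D hD => by
    obtain ⟨x, -, rfl⟩ := (mem_prinDivs hK).mp hD
    exact deg_div hK x

theorem degQ_mk (hK : FunFld.IsFunctionField k K) (D : Dv) :
    degQ hK (QuotientAddGroup.mk D) = D.deg := rfl

/-- The dimension attached to a class. -/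
noncomputable def ellQ (hK : FunFld.IsFunctionField k K) : Cl k K → ℕ :=
  Quotient.lift (_root_.FunFld.ell : Dv → ℕ) fun D E h => by
    obtain ⟨x, hx, rfl⟩ := (mk_eq_mk hK).mp (Quotient.sound h)
    exact (Riemann.ell_add_div hK D hx).symm

theorem ellQ_mk (hK : FunFld.IsFunctionField k K) (D : Dv) :
    ellQ hK (QuotientAddGroup.mk D) = _root_.FunFld.ell D := rfl

variable [Finite k]

theorem finite_effDiv (hK : FunFld.IsFunctionField k K) (n : ℤ) :
    {D : Dv | 0 ≤ D ∧ D.deg = n}.Finite := by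
  classical
  have hS := Points.finite_deg_le hK n.toNat
  have : Finite {P : Pl | P.deg ≤ n.toNat} := hS
  refine Set.Finite.of_finite_image
    (f := fun D : Dv => fun P : {P : Pl | P.deg ≤ n.toNat} => D P.1) ?_ ?_
  · refine (Set.Finite.pi (fun _ => Set.finite_Icc (0 : ℤ) n)).subset ?_
    rintro _ ⟨D, ⟨h0, hd⟩, rfl⟩ P -
    refine ⟨Finsupp.le_def.mp h0 _, ?_⟩
    have hle : Finsupp.single P.1 (D P.1) ≤ D := Finsupp.le_def.mpr fun Q => by
      rcases eq_or_ne Q P.1 with rfl | hQ
      · rw [Finsupp.single_eq_same]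
      · rw [Finsupp.single_eq_of_ne hQ]; exact Finsupp.le_def.mp h0 Q
    have := deg_mono hle
    rw [deg_single, hd] at this
    have h1 := Existence.deg_pos hK P.1
    have h2 : (0 : ℤ) ≤ D P.1 := Finsupp.le_def.mp h0 _
    nlinarith
  · intro D hD E hE h
    have hsupp : ∀ F ∈ {D : Dv | 0 ≤ D ∧ D.deg = n}, ∀ P : Pl, F P ≠ 0 → P.deg ≤ n.toNat := by
      intro F ⟨h0, hd⟩ P hP
      have h2 : (0 : ℤ) ≤ F P := Finsupp.le_def.mp h0 _
      have hle : Finsupp.single P 1 ≤ F := Finsupp.le_def.mpr fun Q => by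
        rcases eq_or_ne Q P with rfl | hQ
        · rw [Finsupp.single_eq_same]; omega
        · rw [Finsupp.single_eq_of_ne hQ]; exact Finsupp.le_def.mp h0 Q
      have := deg_mono hle
      rw [deg_single, hd] at this
      omega
    ext P
    by_cases hP : P.deg ≤ n.toNat
    · exact congrFun h ⟨P, hP⟩
    · rw [not_not.mp (mt (hsupp D hD P) hP), not_not.mp (mt (hsupp E hE P) hP)]

theorem one_lt_card : 1 < Nat.card k := Finite.one_lt_card

/-- There are `(q^ℓ - 1)/(q - 1)` effective divisors in a class. -/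
theorem card_class (hK : FunFld.IsFunctionField k K) (c : Cl k K) :
    (Nat.card k - 1) * Nat.card {D : Dv // 0 ≤ D ∧ QuotientAddGroup.mk D = c} + 1 =
      Nat.card k ^ ellQ hK c := by
  classical
  obtain ⟨D₀, rfl⟩ := QuotientAddGroup.mk_surjective c
  rw [ellQ_mk]
  have := finiteDimensional_L hK D₀
  have : Finite (_root_.FunFld.L D₀) := Module.finite_of_finite k
  have hLcard : Nat.card (_root_.FunFld.L D₀) = Nat.card k ^ _root_.FunFld.ell D₀ :=
    Module.natCard_eq_pow_finrank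
  let E := {D : Dv // 0 ≤ D ∧ (QuotientAddGroup.mk D : Cl k K) = QuotientAddGroup.mk D₀}
  have hx : ∀ D : E, ∃ z : K, z ≠ 0 ∧ D.1 = D₀ + _root_.FunFld.div k z :=
    fun D => (mk_eq_mk hK).mp D.2.2.symm
  choose z hz0 hz using hx
  have hzL : ∀ D : E, z D ∈ _root_.FunFld.L D₀ := fun D =>
    (mem_L_iff_div hK).mpr (Or.inr (by rw [add_comm, ← hz D]; exact D.2.1))
  let F : kˣ × E → {w : _root_.FunFld.L D₀ // w ≠ 0} := fun p =>
    ⟨(p.1 : k) • ⟨z p.2, hzL p.2⟩,
      smul_ne_zero p.1.ne_zero fun h => hz0 p.2 (congrArg Subtype.val h)⟩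
  have hdiv : ∀ (u : k) (y : K), u ≠ 0 → y ≠ 0 →
      _root_.FunFld.div k (u • y) = _root_.FunFld.div k y := by
    intro u y hu hy
    rw [Algebra.smul_def, Degree.div_mul hK (by simpa using hu) hy, SmallGenus.div_algebraMap hK, zero_add]
  have hF : Function.Bijective F := by
    constructor
    · rintro ⟨u, D⟩ ⟨u', D'⟩ h
      have h' : (u : k) • z D = (u' : k) • z D' := congrArg (fun w => w.1.1) h
      have hDD : D = D' := by
        have h2 := congrArg (_root_.FunFld.div k) h'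
        rw [hdiv _ _ u.ne_zero (hz0 D), hdiv _ _ u'.ne_zero (hz0 D')] at h2
        exact Subtype.ext (by rw [hz D, hz D', h2])
      subst hDD
      exact Prod.ext (Units.ext (smul_left_injective k (hz0 D) h')) rfl
    · rintro ⟨⟨w, hw⟩, hw0⟩
      have hw0' : w ≠ 0 := fun h => hw0 (Subtype.ext h)
      let D : E := ⟨_root_.FunFld.div k w + D₀, ((mem_L_iff_div hK).mp hw).resolve_left hw0',
        ((mk_eq_mk hK).mpr ⟨w, hw0', add_comm _ _⟩).symm⟩
      have hw' : _root_.FunFld.div k w = _root_.FunFld.div k (z D) := by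
        exact add_left_cancel ((add_comm D₀ _).trans (hz D))
      have hmem : w * (z D)⁻¹ ∈ _root_.FunFld.L (0 : Dv) :=
        (mem_L_iff_div hK).mpr (Or.inr (by
          rw [div_mul hK hw0' (inv_ne_zero (hz0 D)), div_inv hK, hw', add_neg_cancel, add_zero]))
      rw [L_zero hK, Submodule.one_eq_range] at hmem
      obtain ⟨u, hu⟩ := hmem
      simp only [Algebra.linearMap_apply] at hu
      have hu0 : u ≠ 0 := fun h => by simp [h, hw0', hz0 D] at hu
      refine ⟨(Units.mk0 u hu0, D), Subtype.ext (Subtype.ext ?_)⟩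
      change u • z D = w
      rw [Algebra.smul_def, hu, inv_mul_cancel_right₀ (hz0 D)]
  have h1 := Nat.card_eq_of_bijective F hF
  rw [Nat.card_prod, Nat.card_units] at h1
  have h2 : Nat.card {w : _root_.FunFld.L D₀ // w ≠ 0} + 1 = Nat.card k ^ _root_.FunFld.ell D₀ := by
    rw [← hLcard]
    have := Set.ncard_add_ncard_compl {w : _root_.FunFld.L D₀ | w ≠ 0}
    have h3 : ({w : _root_.FunFld.L D₀ | w ≠ 0}ᶜ : Set _) = {0} := by ext; simp
    rw [h3, Set.ncard_singleton, ← Nat.card_coe_set_eq] at this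
    exact this
  rw [← h2, ← h1]

omit [Finite k] in
theorem exists_effDiv_of_class (hK : FunFld.IsFunctionField k K) (c : Cl k K)
    (h : (_root_.FunFld.genus k K : ℤ) ≤ degQ hK c) :
    ∃ D : Dv, 0 ≤ D ∧ D.deg = degQ hK c ∧ QuotientAddGroup.mk D = c := by
  obtain ⟨D₀, rfl⟩ := QuotientAddGroup.mk_surjective c
  rw [degQ_mk] at h ⊢
  have := Riemann.riemann hK D₀
  obtain ⟨F, x, hF, hx, hE, hdeg⟩ := SmallGenus.exists_nonneg hK (E := D₀) (by omega)
  exact ⟨F, hF, hdeg, (mk_eq_mk hK).mpr ⟨x, hx, hE⟩⟩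

theorem finite_class_of_ge (hK : FunFld.IsFunctionField k K) (n : ℤ)
    (h : (_root_.FunFld.genus k K : ℤ) ≤ n) : {c : Cl k K | degQ hK c = n}.Finite := by
  refine ((finite_effDiv hK n).image (QuotientAddGroup.mk : Dv → Cl k K)).subset fun c hc => ?_
  obtain ⟨D, h0, hd, rfl⟩ := exists_effDiv_of_class hK c (hc.symm ▸ h)
  exact ⟨D, ⟨h0, hd.trans hc⟩, rfl⟩

theorem finite_class (hK : FunFld.IsFunctionField k K) (n : ℤ) :
    {c : Cl k K | degQ hK c = n}.Finite := by
  obtain ⟨P⟩ := Riemann.nonempty_place hK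
  have hp := Existence.deg_pos hK P
  let m : ℤ := |n| + _root_.FunFld.genus k K
  let t : Cl k K := QuotientAddGroup.mk (Finsupp.single P m)
  have hm : (_root_.FunFld.genus k K : ℤ) ≤ n + m * P.deg := by
    have : m ≤ m * P.deg := le_mul_of_one_le_right (by positivity) (by omega)
    have := neg_abs_le n
    omega
  refine Set.Finite.of_finite_image (f := fun c => c + t) ?_ (add_left_injective t).injOn
  refine (finite_class_of_ge hK _ hm).subset ?_
  rintro _ ⟨c, hc, rfl⟩
  rw [Set.mem_ofPred_eq] at hc ⊢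
  rw [map_add, hc, degQ_mk, deg_single]

/-- There are places of coprime degrees. -/
theorem exists_coprime (hK : FunFld.IsFunctionField k K) :
    ∃ P Q : Pl, Nat.Coprime P.deg Q.deg := by
  classical
  obtain ⟨C, hC⟩ := Count.exists_bound_Npts hK
  have hq : (1 : ℝ) < Nat.card k := by exact_mod_cast (one_lt_card : 1 < Nat.card k)
  obtain ⟨M, hM⟩ := pow_unbounded_of_one_lt (C ^ 2) hq
  have key : ∀ m : ℕ, 0 < m → M ≤ m → ∃ P : Pl, P.deg ∣ m := by
    intro m hm hMm
    by_contra hne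
    push Not at hne
    have h0 : Points.Npts k K m = 0 := by
      rw [Points.Npts_eq hK hm]
      exact Finset.sum_eq_zero fun P hP => absurd (by simpa using hP) (hne P)
    have h1 := hC m hm
    rw [h0] at h1
    set Q := (Nat.card k : ℝ) ^ m
    have hQ : C ^ 2 < Q := hM.trans_le (pow_le_pow_right₀ hq.le hMm)
    have hQ0 : 0 ≤ Q := by positivity
    have h2 : C * Real.sqrt Q ≤ Q := by
      have hs := Real.sq_sqrt hQ0
      have hs0 := Real.sqrt_nonneg Q
      nlinarith [sq_nonneg (C - Real.sqrt Q)]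
    rw [Nat.cast_zero, zero_sub, abs_neg, abs_of_nonneg (by positivity)] at h1
    linarith
  obtain ⟨p, hpM, hp⟩ := Nat.exists_infinite_primes (M + 1)
  obtain ⟨r, hrM, hr⟩ := Nat.exists_infinite_primes (p + 1)
  obtain ⟨P, hP⟩ := key p hp.pos (by omega)
  obtain ⟨R, hR⟩ := key r hr.pos (by omega)
  refine ⟨P, R, ?_⟩
  exact Nat.Coprime.coprime_dvd_left hP
    (Nat.Coprime.coprime_dvd_right hR ((Nat.coprime_primes hp hr).mpr (by omega)))

/-- `δ = 1`. -/
theorem exists_deg (hK : FunFld.IsFunctionField k K) (n : ℤ) : ∃ D : Dv, D.deg = n := by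
  obtain ⟨P, Q, h⟩ := exists_coprime hK
  obtain ⟨a, b, hab⟩ := Int.isCoprime_iff_gcd_eq_one.mpr
    (show Int.gcd (P.deg : ℤ) Q.deg = 1 from h)
  refine ⟨(n * a) • Finsupp.single P 1 + (n * b) • Finsupp.single Q 1, ?_⟩
  rw [deg_add, deg_smul, deg_smul, deg_single, deg_single]
  linear_combination n * hab

variable (k K) in
theorem classNum_eq (hK : FunFld.IsFunctionField k K) :
    Finite ((_root_.FunFld.degHom k K).ker ⧸
      (_root_.FunFld.prinDivs k K).addSubgroupOf (_root_.FunFld.degHom k K).ker) ∧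
    _root_.FunFld.classNum k K = Nat.card {c : Cl k K // degQ hK c = 0} := by
  let H := (_root_.FunFld.prinDivs k K).addSubgroupOf (_root_.FunFld.degHom k K).ker
  let f : (_root_.FunFld.degHom k K).ker ⧸ H → {c : Cl k K // degQ hK c = 0} :=
    Quotient.lift (fun D => ⟨QuotientAddGroup.mk (D.1 : Dv), (degQ_mk hK _).trans D.2⟩)
      fun D E h => by
        have h1 : -D + E ∈ H := QuotientAddGroup.eq.mp (Quotient.sound h)
        exact Subtype.ext (QuotientAddGroup.eq.mpr h1)
  have hf : Function.Bijective f := by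
    constructor
    · intro a b h
      obtain ⟨D, rfl⟩ := QuotientAddGroup.mk_surjective a
      obtain ⟨E, rfl⟩ := QuotientAddGroup.mk_surjective b
      have h' : (QuotientAddGroup.mk D.1 : Cl k K) = QuotientAddGroup.mk E.1 := congrArg Subtype.val h
      have h1 : -D.1 + E.1 ∈ _root_.FunFld.prinDivs k K := QuotientAddGroup.eq.mp h'
      exact QuotientAddGroup.eq.mpr h1
    · rintro ⟨c, hc⟩
      obtain ⟨D, rfl⟩ := QuotientAddGroup.mk_surjective c
      exact ⟨QuotientAddGroup.mk ⟨D, hc⟩, rfl⟩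
  have : Finite {c : Cl k K // degQ hK c = 0} := finite_class hK 0
  exact ⟨Finite.of_injective f hf.1, Nat.card_eq_of_bijective f hf⟩

theorem card_degQ (hK : FunFld.IsFunctionField k K) (n : ℤ) :
    Nat.card {c : Cl k K // degQ hK c = n} = _root_.FunFld.classNum k K := by
  rw [(classNum_eq k K hK).2]
  obtain ⟨D, hD⟩ := exists_deg hK n
  refine Nat.card_congr ((Equiv.addRight (QuotientAddGroup.mk D : Cl k K)).subtypeEquiv fun c => ?_).symm
  rw [Equiv.coe_addRight, map_add, degQ_mk, hD, add_eq_right]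

theorem classNum_pos (hK : FunFld.IsFunctionField k K) : 0 < _root_.FunFld.classNum k K := by
  rw [(classNum_eq k K hK).2]
  have : Finite {c : Cl k K // degQ hK c = 0} := finite_class hK 0
  have : Nonempty {c : Cl k K // degQ hK c = 0} := ⟨⟨0, map_zero _⟩⟩
  exact Nat.card_pos

/-- `∑ q^ℓ` over the classes of degree `n`. -/
noncomputable def A (hK : FunFld.IsFunctionField k K) (n : ℤ) : ℚ :=
  ∑ c ∈ (finite_class hK n).toFinset, (Nat.card k : ℚ) ^ ellQ hK c

/-- The number of effective divisors of degree `n`, for an integer `n`. -/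
noncomputable def a (n : ℤ) : ℕ := Nat.card {D : Dv // 0 ≤ D ∧ D.deg = n}

omit [Finite k] in
theorem a_natCast (n : ℕ) : a (k := k) (K := K) n = _root_.FunFld.effDivCount k K n := rfl

omit [Finite k] in
theorem a_neg {n : ℤ} (h : n < 0) : a (k := k) (K := K) n = 0 := by
  have : IsEmpty {D : Dv // 0 ≤ D ∧ D.deg = n} := ⟨fun D => by
    have := deg_nonneg D.2.1; omega⟩
  exact Nat.card_of_isEmpty

omit [Finite k] in
theorem a_zero (hK : FunFld.IsFunctionField k K) : a (k := k) (K := K) 0 = 1 := by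
  have : Unique {D : Dv // 0 ≤ D ∧ D.deg = 0} :=
    ⟨⟨⟨0, le_rfl, deg_zero⟩⟩, fun D => Subtype.ext (SmallGenus.eq_zero_of_nonneg hK D.2.1 D.2.2)⟩
  exact Nat.card_unique

theorem card_toFinset (hK : FunFld.IsFunctionField k K) (n : ℤ) :
    (finite_class hK n).toFinset.card = _root_.FunFld.classNum k K := by
  rw [← card_degQ hK n, ← Set.ncard_eq_toFinset_card _ (finite_class hK n), ← Nat.card_coe_set_eq]
  rfl

theorem a_eq (hK : FunFld.IsFunctionField k K) (n : ℤ) :
    ((Nat.card k : ℚ) - 1) * a (k := k) (K := K) n = A hK n - _root_.FunFld.classNum k K := by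
  classical
  have hq : (1 : ℕ) ≤ Nat.card k := (one_lt_card : 1 < Nat.card k).le
  let S := {c : Cl k K // degQ hK c = n}
  have : Finite S := finite_class hK n
  have : ∀ c : S, Finite {D : Dv // 0 ≤ D ∧ (QuotientAddGroup.mk D : Cl k K) = c.1} := fun c =>
    Set.Finite.subset (finite_effDiv hK n) fun D hD => ⟨hD.1, by
      rw [← degQ_mk hK, hD.2, c.2]⟩
  have he : a (k := k) (K := K) n =
      ∑ᶠ c : S, Nat.card {D : Dv // 0 ≤ D ∧ (QuotientAddGroup.mk D : Cl k K) = c.1} := by
    have := Fintype.ofFinite S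
    rw [finsum_eq_sum_of_fintype, ← Nat.card_sigma]
    refine Nat.card_congr
      { toFun := fun D => ⟨⟨QuotientAddGroup.mk D.1, (degQ_mk hK _).trans D.2.2⟩, ⟨D.1, D.2.1, rfl⟩⟩
        invFun := fun p => ⟨p.2.1, p.2.2.1, by rw [← degQ_mk hK, p.2.2.2, p.1.2]⟩
        left_inv := fun D => rfl
        right_inv := ?_ }
    rintro ⟨⟨c, hc⟩, ⟨D, h0, hD⟩⟩
    change (QuotientAddGroup.mk D : Cl k K) = c at hD
    subst hD
    rfl
  rw [he, finsum_subtype_eq_finsum_cond (f := fun c : Cl k K =>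
      Nat.card {D : Dv // 0 ≤ D ∧ (QuotientAddGroup.mk D : Cl k K) = c}) (fun c => degQ hK c = n),
    finsum_cond_eq_sum_of_cond_iff (t := (finite_class hK n).toFinset) _ (by simp), A,
    ← card_toFinset hK n, Nat.cast_sum, Finset.mul_sum, Finset.card_eq_sum_ones, Nat.cast_sum,
    ← Finset.sum_sub_distrib]
  refine Finset.sum_congr rfl fun c _ => ?_
  have h := congrArg (fun m : ℕ => (m : ℚ)) (card_class hK c)
  push_cast [Nat.cast_sub hq] at h
  push_cast
  linarith

/-- The Riemann–Roch symmetry of `A`. -/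
theorem A_symm (hK : FunFld.IsFunctionField k K) (n : ℤ) :
    A hK n = (Nat.card k : ℚ) ^ (n + 1 - _root_.FunFld.genus k K) *
      A hK (2 * (_root_.FunFld.genus k K : ℤ) - 2 - n) := by
  obtain ⟨C, hC⟩ := Weil.exists_isCanonical hK
  have hC' := Weil.deg_canonical hK hC
  have hq : (Nat.card k : ℚ) ≠ 0 := Nat.cast_ne_zero.mpr Nat.card_pos.ne'
  rw [A, A, Finset.mul_sum]
  refine Finset.sum_nbij' (fun c => (QuotientAddGroup.mk C : Cl k K) - c)
    (fun c => (QuotientAddGroup.mk C : Cl k K) - c) ?_ ?_ ?_ ?_ ?_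
  · intro c hc
    simp only [Set.Finite.mem_toFinset, Set.mem_ofPred_eq] at hc ⊢
    rw [map_sub, degQ_mk, hC', hc]
  · intro c hc
    simp only [Set.Finite.mem_toFinset, Set.mem_ofPred_eq] at hc ⊢
    rw [map_sub, degQ_mk, hC', hc]; ring
  · intro c _; exact sub_sub_cancel _ _
  · intro c _; exact sub_sub_cancel _ _
  · intro c hc
    obtain ⟨D, rfl⟩ := QuotientAddGroup.mk_surjective c
    simp only [Set.Finite.mem_toFinset, Set.mem_ofPred_eq, degQ_mk] at hc
    rw [← QuotientAddGroup.mk_sub, ellQ_mk, ellQ_mk]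
    have := Weil.riemann_roch hK hC D
    rw [hc] at this
    rw [← zpow_natCast, this, zpow_add₀ hq, zpow_natCast]

theorem A_of_ge (hK : FunFld.IsFunctionField k K) {n : ℤ}
    (h : 2 * (_root_.FunFld.genus k K : ℤ) - 1 ≤ n) :
    A hK n = _root_.FunFld.classNum k K * (Nat.card k : ℚ) ^ (n + 1 - _root_.FunFld.genus k K) := by
  rw [← card_toFinset hK n, A, ← nsmul_eq_mul, ← Finset.sum_const]
  refine Finset.sum_congr rfl fun c hc => ?_
  obtain ⟨D, rfl⟩ := QuotientAddGroup.mk_surjective c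
  simp only [Set.Finite.mem_toFinset, Set.mem_ofPred_eq, degQ_mk] at hc
  rw [ellQ_mk, ← zpow_natCast, Weil.ell_eq_of_deg_ge hK (by omega), hc]

theorem A_neg (hK : FunFld.IsFunctionField k K) {n : ℤ} (h : n < 0) :
    A hK n = _root_.FunFld.classNum k K := by
  have := a_eq hK n
  rw [a_neg h, Nat.cast_zero, mul_zero] at this
  linarith

/-- The coefficients of the numerator of the zeta series, on all integers. -/
noncomputable def c (n : ℤ) : ℤ :=
  a (k := k) (K := K) n - ((Nat.card k : ℤ) + 1) * a (k := k) (K := K) (n - 1) +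
    (Nat.card k : ℤ) * a (k := k) (K := K) (n - 2)

omit [Finite k] in
theorem coeff_numerZ (n : ℕ) :
    PowerSeries.coeff n (_root_.FunFld.numerZ k K) = c (k := k) (K := K) n := by
  have e : _root_.FunFld.numerZ k K = _root_.FunFld.zetaZ k K
      - PowerSeries.C ((Nat.card k : ℤ) + 1) * (PowerSeries.X * _root_.FunFld.zetaZ k K)
      + PowerSeries.C (Nat.card k : ℤ) * (PowerSeries.X * (PowerSeries.X * _root_.FunFld.zetaZ k K)) := by
    rw [_root_.FunFld.numerZ, map_add, map_one]; ring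
  rw [e, map_add, map_sub, PowerSeries.coeff_C_mul, PowerSeries.coeff_C_mul, c]
  match n with
  | 0 => simp [_root_.FunFld.zetaZ, a_neg, ← a_natCast]
  | 1 =>
    simp [_root_.FunFld.zetaZ, a_neg, ← a_natCast]
  | m + 2 =>
    rw [PowerSeries.coeff_succ_X_mul, PowerSeries.coeff_succ_X_mul, PowerSeries.coeff_succ_X_mul]
    simp only [_root_.FunFld.zetaZ, PowerSeries.coeff_mk, ← a_natCast]
    push_cast
    ring_nf

theorem c_eq (hK : FunFld.IsFunctionField k K) (n : ℤ) :
    ((Nat.card k : ℚ) - 1) * c (k := k) (K := K) n =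
      A hK n - ((Nat.card k : ℚ) + 1) * A hK (n - 1) + (Nat.card k : ℚ) * A hK (n - 2) := by
  rw [c]
  push_cast
  linear_combination a_eq hK n - ((Nat.card k : ℚ) + 1) * a_eq hK (n - 1)
    + (Nat.card k : ℚ) * a_eq hK (n - 2)

/-- The functional equation. -/
theorem c_symm (hK : FunFld.IsFunctionField k K) (i : ℤ) :
    (c (k := k) (K := K) (2 * (_root_.FunFld.genus k K : ℤ) - i) : ℚ) =
      (Nat.card k : ℚ) ^ ((_root_.FunFld.genus k K : ℤ) - i) * c (k := k) (K := K) i := by
  have hq : (Nat.card k : ℚ) ≠ 0 := Nat.cast_ne_zero.mpr Nat.card_pos.ne'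
  have hq1 : (Nat.card k : ℚ) - 1 ≠ 0 :=
    sub_ne_zero.mpr (by exact_mod_cast (one_lt_card : 1 < Nat.card k).ne')
  refine mul_left_cancel₀ hq1 ?_
  rw [c_eq hK, mul_left_comm, c_eq hK, A_symm hK (2 * _ - i), A_symm hK (2 * _ - i - 1),
    A_symm hK (2 * _ - i - 2)]
  set g := (_root_.FunFld.genus k K : ℤ)
  set q := (Nat.card k : ℚ)
  rw [show 2 * g - 2 - (2 * g - i) = i - 2 by ring, show 2 * g - 2 - (2 * g - i - 1) = i - 1 by ring,
    show 2 * g - 2 - (2 * g - i - 2) = i by ring,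
    show 2 * g - i + 1 - g = (g - i) + 1 by ring, show 2 * g - i - 1 + 1 - g = g - i by ring,
    show 2 * g - i - 2 + 1 - g = (g - i) - 1 by ring, zpow_add_one₀ hq, zpow_sub_one₀ hq]
  field_simp
  ring

omit [Finite k] in
theorem c_neg {n : ℤ} (h : n < 0) : c (k := k) (K := K) n = 0 := by
  rw [c, a_neg h, a_neg (by omega), a_neg (by omega)]; simp

omit [Finite k] in
theorem c_zero (hK : FunFld.IsFunctionField k K) : c (k := k) (K := K) 0 = 1 := by
  rw [c, a_zero hK, a_neg (by omega), a_neg (by omega)]; simp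

theorem c_gt (hK : FunFld.IsFunctionField k K) {n : ℤ}
    (h : 2 * (_root_.FunFld.genus k K : ℤ) < n) : c (k := k) (K := K) n = 0 := by
  have := c_symm hK (2 * (_root_.FunFld.genus k K : ℤ) - n)
  rw [sub_sub_cancel, c_neg (n := 2 * (_root_.FunFld.genus k K : ℤ) - n) (by omega), Int.cast_zero,
    mul_zero] at this
  exact_mod_cast this

theorem c_top (hK : FunFld.IsFunctionField k K) :
    c (k := k) (K := K) (2 * (_root_.FunFld.genus k K : ℤ)) =
      (Nat.card k : ℤ) ^ _root_.FunFld.genus k K := by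
  have := c_symm hK 0
  rw [sub_zero, sub_zero, c_zero hK, Int.cast_one, mul_one, zpow_natCast] at this
  exact_mod_cast this

variable (k K) in
/-- The numerator of the zeta function as a polynomial. -/
noncomputable def Lpoly : Polynomial ℤ :=
  PowerSeries.trunc (2 * _root_.FunFld.genus k K + 1) (_root_.FunFld.numerZ k K)

theorem coe_Lpoly (hK : FunFld.IsFunctionField k K) :
    (Lpoly k K : PowerSeries ℤ) = _root_.FunFld.numerZ k K := by
  ext n
  rw [Polynomial.coeff_coe, Lpoly, PowerSeries.coeff_trunc]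
  split_ifs with h
  · rfl
  · rw [coeff_numerZ, c_gt hK (by omega)]

theorem coeff_Lpoly (hK : FunFld.IsFunctionField k K) (n : ℕ) :
    (Lpoly k K).coeff n = c (k := k) (K := K) n := by
  rw [← coeff_numerZ, ← coe_Lpoly hK, Polynomial.coeff_coe]

theorem eq_Lpoly (hK : FunFld.IsFunctionField k K) {p : Polynomial ℤ}
    (hp : (p : PowerSeries ℤ) = _root_.FunFld.numerZ k K) : p = Lpoly k K :=
  Polynomial.coe_inj.mp (hp.trans (coe_Lpoly hK).symm)

theorem natDegree_Lpoly (hK : FunFld.IsFunctionField k K) :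
    (Lpoly k K).natDegree = 2 * _root_.FunFld.genus k K := by
  refine Polynomial.natDegree_eq_of_le_of_coeff_ne_zero ?_ ?_
  · rw [Polynomial.natDegree_le_iff_coeff_eq_zero]
    intro n hn
    rw [coeff_Lpoly hK, c_gt hK (by omega)]
  · rw [coeff_Lpoly hK, Nat.cast_mul, Nat.cast_ofNat, c_top hK]
    exact pow_ne_zero _ (by exact_mod_cast Nat.card_pos.ne')

/-- `L(1) = h`. -/
theorem Lpoly_eval_one (hK : FunFld.IsFunctionField k K) :
    (Lpoly k K).eval 1 = (_root_.FunFld.classNum k K : ℤ) := by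
  set g := _root_.FunFld.genus k K with hg
  rw [Polynomial.eval_eq_sum_range, natDegree_Lpoly hK, ← hg]
  simp only [one_pow, mul_one, coeff_Lpoly hK]
  have key : ∀ N : ℕ, ∑ n ∈ Finset.range (N + 1), c (k := k) (K := K) n =
      a (k := k) (K := K) N - (Nat.card k : ℤ) * a (k := k) (K := K) ((N : ℤ) - 1) := by
    intro N
    induction N with
    | zero =>
      rw [Finset.sum_range_one, Nat.cast_zero, c_zero hK, a_zero hK, a_neg (by omega : (0:ℤ) - 1 < 0)]
      simp
    | succ N ih =>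
      rw [Finset.sum_range_succ, ih, c]
      push_cast
      rw [show (N : ℤ) + 1 - 1 = N by ring, show (N : ℤ) + 1 - 2 = N - 1 by ring]
      ring
  rw [key]
  have hq : (Nat.card k : ℚ) ≠ 0 := Nat.cast_ne_zero.mpr Nat.card_pos.ne'
  have hq1 : (Nat.card k : ℚ) - 1 ≠ 0 :=
    sub_ne_zero.mpr (by exact_mod_cast (one_lt_card : 1 < Nat.card k).ne')
  have h1 := a_eq hK ((2 * g : ℕ) : ℤ)
  have h2 := a_eq hK (((2 * g : ℕ) : ℤ) - 1)
  rw [A_of_ge hK (by push_cast; omega)] at h1 h2
  rw [← hg, show ((2 * g : ℕ) : ℤ) + 1 - g = ((g : ℤ)) + 1 by push_cast; ring, zpow_add_one₀ hq] at h1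
  rw [← hg, show ((2 * g : ℕ) : ℤ) - 1 + 1 - g = (g : ℤ) by push_cast; ring] at h2
  have : (((a (k := k) (K := K) ((2 * g : ℕ) : ℤ) : ℤ) -
      (Nat.card k : ℤ) * a (k := k) (K := K) (((2 * g : ℕ) : ℤ) - 1) : ℤ) : ℚ) =
      ((_root_.FunFld.classNum k K : ℤ) : ℚ) := by
    refine mul_left_cancel₀ hq1 ?_
    push_cast at h1 h2 ⊢
    linear_combination h1 - (Nat.card k : ℚ) * h2
  exact_mod_cast this

end Groth.Agent.Lib.FunFld.Zeta.Basic
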