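import Groth.Agent.Lib.FunFld.Zeta.Basic
import Mathlib.RingTheory.PowerSeries.Derivative

/-! Logarithmic derivatives of the zeta series: point counts and power sums of the roots. -/

namespace Groth.Agent.Lib.FunFld.Zeta.Newton

open PowerSeries Groth.Agent.Lib.FunFld Groth.Agent.Lib.FunFld.Degree

section Series

variable {R : Type*} [CommRing R]

/-- `X d/dX`. -/
noncomputable def theta (f : R⟦X⟧) : R⟦X⟧ := X * d⁄dX R f

theorem coeff_theta (f : R⟦X⟧) (n : ℕ) : coeff n (theta f) = (n : R) * coeff n f := by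
  rcases n with _ | n
  · simp [theta]
  · rw [theta, coeff_succ_X_mul, coeff_derivative, Nat.cast_succ, mul_comm]

/-- `T` is the logarithmic derivative of `f`. -/
def Rel (f T : R⟦X⟧) : Prop := theta f = f * T

theorem rel_one : Rel (1 : R⟦X⟧) 0 := by simp [Rel, theta]

theorem rel_mul {f g T U : R⟦X⟧} (hf : Rel f T) (hg : Rel g U) : Rel (f * g) (T + U) := by
  simp only [Rel, theta, Derivation.leibniz, smul_eq_mul] at hf hg ⊢
  linear_combination f * hg + g * hf

theorem rel_prod {ι : Type*} (s : Finset ι) {f T : ι → R⟦X⟧} (h : ∀ i ∈ s, Rel (f i) (T i)) :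
    Rel (∏ i ∈ s, f i) (∑ i ∈ s, T i) := by
  classical
  induction s using Finset.induction with
  | empty => simpa using rel_one
  | insert a s ha ih =>
    rw [Finset.prod_insert ha, Finset.sum_insert ha]
    exact rel_mul (h a (Finset.mem_insert_self a s)) (ih fun i hi => h i (Finset.mem_insert_of_mem hi))

/-- `∑_{m ≥ 1} a^m X^m`. -/
noncomputable def pw (a : R) : R⟦X⟧ := mk fun m => if m = 0 then 0 else a ^ m

theorem coeff_pw (a : R) {m : ℕ} (hm : 0 < m) : coeff m (pw a) = a ^ m := by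
  rw [pw, coeff_mk, if_neg hm.ne']

theorem rel_linear (a : R) : Rel (1 - C a * X : R⟦X⟧) (-pw a) := by
  rw [Rel]
  ext n
  rw [coeff_theta, mul_neg, map_neg, sub_mul, one_mul, map_sub, map_sub, mul_assoc, coeff_C_mul,
    coeff_C_mul]
  match n with
  | 0 => simp [pw]
  | 1 => simp [pw]
  | m + 2 =>
    rw [coeff_succ_X_mul, coeff_pw a (by omega : 0 < m + 1), coeff_pw a (by omega : 0 < m + 2),
      coeff_X, if_neg (by omega), coeff_one, if_neg (by omega)]
    ring

theorem rel_map {S : Type*} [CommRing S] (φ : R →+* S) {f T : R⟦X⟧} (h : Rel f T) :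
    Rel (map φ f) (map φ T) := by
  rw [Rel] at h ⊢
  rw [← map_mul, ← h]
  ext n
  rw [coeff_theta, coeff_map, coeff_map, coeff_theta, map_mul, map_natCast]

theorem rel_unique [IsDomain R] {f T U : R⟦X⟧} (hf : f ≠ 0) (h : Rel f T) (h' : Rel f U) : T = U :=
  mul_left_cancel₀ hf (h.symm.trans h')

/-- In characteristic zero a series is determined by its logarithmic derivative. -/
theorem eq_of_rel [IsDomain R] [CharZero R] {f g T : R⟦X⟧} (hT : constantCoeff T = 0)
    (hf : Rel f T) (hg : Rel g T) (h0 : constantCoeff f = constantCoeff g) : f = g := by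
  ext n
  induction n using Nat.strong_induction_on with
  | _ n ih =>
    rcases n with _ | n
    · simpa using h0
    refine mul_left_cancel₀ (Nat.cast_ne_zero.mpr n.succ_ne_zero : ((n + 1 : ℕ) : R) ≠ 0) ?_
    rw [← coeff_theta, ← coeff_theta, hf, hg, coeff_mul, coeff_mul]
    refine Finset.sum_congr rfl fun p hp => ?_
    rw [Finset.HasAntidiagonal.mem_antidiagonal] at hp
    rcases Nat.eq_zero_or_pos p.2 with h2 | h2
    · rw [h2, coeff_zero_eq_constantCoeff_apply, hT, mul_zero, mul_zero]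
    · rw [ih p.1 (by omega)]

end Series

variable {k K : Type*} [Field k] [Finite k] [Field K] [Algebra k K]

local notation "Pl" => _root_.FunFld.Place k K
local notation "Dv" => _root_.FunFld.Divisor k K

omit [Finite k] in
theorem card_filter_le (P : Pl) (n : ℤ) (j : ℕ) :
    Nat.card {D : Dv // (0 ≤ D ∧ D.deg = n) ∧ (j : ℤ) ≤ D P} =
      Basic.a (k := k) (K := K) (n - j * P.deg) := by
  classical
  refine Nat.card_congr
    { toFun := fun D => ⟨D.1 - Finsupp.single P (j : ℤ), ?_, ?_⟩
      invFun := fun D => ⟨D.1 + Finsupp.single P (j : ℤ), ⟨?_, ?_⟩, ?_⟩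
      left_inv := fun D => Subtype.ext (sub_add_cancel _ _)
      right_inv := fun D => Subtype.ext (add_sub_cancel_right _ _) }
  · refine Finsupp.le_def.mpr fun Q => ?_
    rcases eq_or_ne Q P with rfl | hQ
    · simp [D.2.2]
    · simpa [Finsupp.single_eq_of_ne hQ] using Finsupp.le_def.mp D.2.1.1 Q
  · rw [deg_sub, deg_single, D.2.1.2]
  · exact add_nonneg D.2.1 (Finsupp.single_nonneg.mpr (by positivity))
  · rw [deg_add, deg_single, D.2.2]; ring
  · have := Finsupp.le_def.mp D.2.1 P
    simp only [Finsupp.coe_zero, Pi.zero_apply] at this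
    simp [this]

omit [Finite k] in
theorem sum_mul_a (hK : FunFld.IsFunctionField k K) (P : Pl) (n : ℕ) :
    ∑ j ∈ Finset.Icc 1 n, Basic.a (k := k) (K := K) ((n : ℤ) - j * P.deg) =
      ∑ m ∈ (Finset.Icc 1 n).filter (P.deg ∣ ·), Basic.a (k := k) (K := K) ((n : ℤ) - m) := by
  have hd := Existence.deg_pos hK P
  rw [← Finset.sum_filter_of_ne (p := fun j => j * P.deg ≤ n) fun j _ hj => by
    by_contra hlt
    exact hj (Basic.a_neg (by rw [← Nat.cast_mul]; omega))]
  refine Finset.sum_nbij' (fun j => j * P.deg) (fun m => m / P.deg) ?_ ?_ ?_ ?_ ?_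
  · intro j hj
    simp only [Finset.mem_filter, Finset.mem_Icc] at hj ⊢
    exact ⟨⟨le_trans hj.1.1 (Nat.le_mul_of_pos_right _ hd), hj.2⟩, dvd_mul_left _ _⟩
  · intro m hm
    simp only [Finset.mem_filter, Finset.mem_Icc] at hm ⊢
    refine ⟨⟨(Nat.one_le_div_iff hd).mpr (Nat.le_of_dvd (by omega) hm.2), ?_⟩, ?_⟩
    · exact le_trans (Nat.div_le_self _ _) hm.1.2
    · rw [Nat.div_mul_cancel hm.2]; exact hm.1.2
  · intro j _; exact Nat.mul_div_cancel _ hd
  · intro m hm
    simp only [Finset.mem_filter] at hm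
    exact Nat.div_mul_cancel hm.2
  · intro j _; rw [Nat.cast_mul]

/-- `n a(n) = ∑ N_m a(n - m)`. -/
theorem count_identity (hK : FunFld.IsFunctionField k K) (n : ℕ) :
    n * Basic.a (k := k) (K := K) n =
      ∑ m ∈ Finset.Icc 1 n, Points.Npts k K m * Basic.a (k := k) (K := K) ((n : ℤ) - m) := by
  classical
  let T := (Points.finite_deg_le hK n).toFinset
  let S := (Basic.finite_effDiv hK (n : ℤ)).toFinset
  have hmemT : ∀ P : Pl, P ∈ T ↔ P.deg ≤ n := fun P => by simp [T]
  have hmemS : ∀ D : Dv, D ∈ S ↔ 0 ≤ D ∧ D.deg = (n : ℤ) := fun D => by simp [S]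
  have hcard : ∀ (P : Pl) (j : ℕ), (S.filter fun D => (j : ℤ) ≤ D P).card =
      Basic.a (k := k) (K := K) ((n : ℤ) - j * P.deg) := fun P j => by
    rw [← card_filter_le, ← Nat.card_eq_finsetCard]
    exact Nat.card_congr (Equiv.subtypeEquivRight fun D => by rw [Finset.mem_filter, hmemS])
  have hN : ∀ m ∈ Finset.Icc 1 n, Points.Npts k K m = ∑ P ∈ T.filter (·.deg ∣ m), P.deg := by
    intro m hm
    rw [Finset.mem_Icc] at hm
    rw [Points.Npts_eq hK hm.1]
    refine Finset.sum_congr (Finset.ext fun P => ?_) fun _ _ => rfl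
    rw [Finset.mem_filter, hmemT, Set.Finite.mem_toFinset, Set.mem_ofPred_eq]
    exact ⟨fun h => ⟨(Nat.le_of_dvd hm.1 h).trans hm.2, h⟩, And.right⟩
  have hS : n * Basic.a (k := k) (K := K) n = ∑ D ∈ S, ∑ P ∈ T, P.deg * (D P).toNat := by
    rw [Finset.sum_congr rfl (g := fun _ => n) fun D hD => ?_, Finset.sum_const, smul_eq_mul, mul_comm]
    · rw [Basic.a, ← Nat.card_eq_finsetCard]
      exact congrArg (· * n) (Nat.card_congr (Equiv.subtypeEquivRight fun D => (hmemS D).symm))
    obtain ⟨h0, hd⟩ := (hmemS D).mp hD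
    have h1 : (D.deg : ℤ) = ∑ P ∈ T, D P * P.deg := by
      refine Finsupp.sum_of_support_subset _ (fun P hP => (hmemT P).mpr ?_) _ (by simp)
      rw [Finsupp.mem_support_iff] at hP
      have h2 := Finsupp.le_def.mp h0 P
      simp only [Finsupp.coe_zero, Pi.zero_apply] at h2
      have h3 : Finsupp.single P 1 ≤ D := Finsupp.le_def.mpr fun Q => by
        rcases eq_or_ne Q P with rfl | hQ
        · rw [Finsupp.single_eq_same]; omega
        · rw [Finsupp.single_eq_of_ne hQ]; exact Finsupp.le_def.mp h0 Q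
      have := deg_mono h3
      rw [deg_single, hd] at this
      omega
    zify
    rw [← hd, h1]
    refine Finset.sum_congr rfl fun P _ => ?_
    rw [Int.toNat_of_nonneg (Finsupp.le_def.mp h0 P), mul_comm]
  have hind : ∀ D ∈ S, ∀ P ∈ T,
      (D P).toNat = ((Finset.Icc 1 n).filter fun j : ℕ => (j : ℤ) ≤ D P).card := by
    intro D hD P _
    obtain ⟨h0, hd⟩ := (hmemS D).mp hD
    have h2 := Finsupp.le_def.mp h0 P
    simp only [Finsupp.coe_zero, Pi.zero_apply] at h2
    have hle : (D P).toNat ≤ n := by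
      have h3 : Finsupp.single P (D P) ≤ D := Finsupp.le_def.mpr fun Q => by
        rcases eq_or_ne Q P with rfl | hQ
        · rw [Finsupp.single_eq_same]
        · rw [Finsupp.single_eq_of_ne hQ]; exact Finsupp.le_def.mp h0 Q
      have := deg_mono h3
      rw [deg_single, hd] at this
      have h4 : D P ≤ D P * P.deg := le_mul_of_one_le_right h2 (by exact_mod_cast Existence.deg_pos hK P)
      omega
    rw [show (Finset.Icc 1 n).filter (fun j : ℕ => (j : ℤ) ≤ D P) = Finset.Icc 1 (D P).toNat by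
      ext j; simp only [Finset.mem_filter, Finset.mem_Icc]; omega, Nat.card_Icc, Nat.add_sub_cancel]
  have hR : ∑ m ∈ Finset.Icc 1 n, Points.Npts k K m * Basic.a (k := k) (K := K) ((n : ℤ) - m) =
      ∑ m ∈ Finset.Icc 1 n, ∑ P ∈ T,
        if P.deg ∣ m then P.deg * Basic.a (k := k) (K := K) ((n : ℤ) - m) else 0 :=
    Finset.sum_congr rfl fun m hm => by rw [hN m hm, Finset.sum_mul, Finset.sum_filter]
  rw [hS, hR, Finset.sum_congr rfl (g := fun D => ∑ P ∈ T,
      P.deg * ((Finset.Icc 1 n).filter fun j : ℕ => (j : ℤ) ≤ D P).card)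
    fun D hD => Finset.sum_congr rfl fun P hP => by rw [hind D hD P hP],
    Finset.sum_comm, Finset.sum_comm (s := Finset.Icc 1 n)]
  refine Finset.sum_congr rfl fun P _ => ?_
  rw [← Finset.sum_filter, ← Finset.mul_sum, ← Finset.mul_sum, ← sum_mul_a hK P n]
  congr 1
  simp_rw [← hcard, Finset.card_eq_sum_ones, Finset.sum_filter]
  exact Finset.sum_comm

variable (k K) in
/-- `∑ N_m X^m`. -/
noncomputable def nser : PowerSeries ℤ :=
  mk fun m => if m = 0 then 0 else (Points.Npts k K m : ℤ)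

omit [Finite k] in
theorem coeff_nser {m : ℕ} (hm : 0 < m) : coeff m (nser k K) = (Points.Npts k K m : ℤ) := by
  rw [nser, coeff_mk, if_neg hm.ne']

theorem rel_zeta (hK : FunFld.IsFunctionField k K) :
    Rel (_root_.FunFld.zetaZ k K) (nser k K) := by
  rw [Rel]
  ext n
  rw [coeff_theta, mul_comm (_root_.FunFld.zetaZ k K), coeff_mul,
    Finset.Nat.sum_antidiagonal_eq_sum_range_succ_mk]
  simp only [nser, coeff_mk, _root_.FunFld.zetaZ]
  rw [← Basic.a_natCast, ← Nat.cast_mul, count_identity hK, Nat.cast_sum]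
  refine (Finset.sum_subset_zero_on_sdiff (fun m hm => ?_) (fun m hm => ?_) fun m hm => ?_)
  · simp only [Finset.mem_Icc, Finset.mem_range] at hm ⊢; omega
  · simp only [Finset.mem_sdiff, Finset.mem_Icc, Finset.mem_range] at hm
    rw [if_pos (by omega), zero_mul]
  · rw [Finset.mem_Icc] at hm
    rw [if_neg (by omega), ← Basic.a_natCast, Nat.cast_mul, Nat.cast_sub hm.2]

theorem rel_numerZ (hK : FunFld.IsFunctionField k K) :
    Rel (_root_.FunFld.numerZ k K) (-pw 1 + -pw (Nat.card k : ℤ) + nser k K) := by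
  rw [_root_.FunFld.numerZ]
  refine rel_mul (rel_mul ?_ (rel_linear _)) (rel_zeta hK)
  simpa using rel_linear (1 : ℤ)

omit [Finite k] in
theorem constantCoeff_numerZ (hK : FunFld.IsFunctionField k K) :
    constantCoeff (_root_.FunFld.numerZ k K) = 1 := by
  rw [← coeff_zero_eq_constantCoeff_apply, Basic.coeff_numerZ]
  exact Basic.c_zero hK

theorem rel_prodLin {ι : Type*} [Fintype ι] (α : ι → ℂ) :
    Rel ((∏ i, (1 - Polynomial.C (α i) * Polynomial.X) : Polynomial ℂ) : PowerSeries ℂ)
      (∑ i, -pw (α i)) := by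
  rw [← Polynomial.coeToPowerSeries.ringHom_apply, map_prod]
  refine rel_prod _ fun i _ => ?_
  simpa [Polynomial.coeToPowerSeries.ringHom_apply, Polynomial.coe_sub, Polynomial.coe_mul,
    Polynomial.coe_C, Polynomial.coe_X, Polynomial.coe_one] using rel_linear (α i)

/-- Point counts are given by the power sums of the reciprocal roots. -/
theorem npts_eq_sum (hK : FunFld.IsFunctionField k K) {ι : Type*} [Fintype ι] (α : ι → ℂ)
    (hα : map (Int.castRingHom ℂ) (_root_.FunFld.numerZ k K) =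
      ((∏ i, (1 - Polynomial.C (α i) * Polynomial.X) : Polynomial ℂ) : PowerSeries ℂ))
    {m : ℕ} (hm : 0 < m) :
    (Points.Npts k K m : ℂ) = 1 + (Nat.card k : ℂ) ^ m - ∑ i, α i ^ m := by
  have h1 := rel_map (Int.castRingHom ℂ) (rel_numerZ hK)
  rw [hα] at h1
  have hne : ((∏ i, (1 - Polynomial.C (α i) * Polynomial.X) : Polynomial ℂ) : PowerSeries ℂ) ≠ 0 := by
    rw [← hα]
    intro h
    have := congrArg constantCoeff h
    rw [← coeff_zero_eq_constantCoeff_apply, coeff_map, coeff_zero_eq_constantCoeff_apply,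
      constantCoeff_numerZ hK] at this
    simp at this
  have h2 := congrArg (coeff m) (rel_unique hne h1 (rel_prodLin α))
  simp only [coeff_map, map_add, map_neg, map_sum, coeff_pw _ hm, coeff_nser hm,
    Finset.sum_neg_distrib, map_pow, map_one, one_pow, eq_intCast, Int.cast_natCast] at h2
  linear_combination h2

end Groth.Agent.Lib.FunFld.Zeta.Newton
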