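import Groth.Agent.Lib.FunFld.Ext
import Groth.Agent.Lib.FunFld.Res.SepRes
import Mathlib.FieldTheory.IsAlgClosed.AlgebraicClosure
import Mathlib.FieldTheory.Finite.Basic
import Mathlib.FieldTheory.PrimitiveElement
import Mathlib.RingTheory.Polynomial.IsIntegral
import Mathlib.FieldTheory.Perfect

/-! The constant field extension to an algebraic closure of a finite constant field. -/

namespace Groth.Agent.Lib.FunFld.Zeta.Bar

open Polynomial IntermediateField

universe u v w z
variable {k : Type u} {K : Type v} {kb : Type w} {Kb : Type z} [Field k] [Field K] [Field kb] [Field Kb]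
  [Algebra k K] [Algebra k kb] [Algebra K Kb] [Algebra kb Kb] [Algebra k Kb]
  [IsScalarTower k K Kb] [IsScalarTower k kb Kb]

theorem isIntegral_bar [Algebra.IsAlgebraic k kb]
    (hgen : Algebra.adjoin K (Set.range (algebraMap kb Kb)) = ⊤) : Algebra.IsIntegral K Kb := by
  refine ⟨fun z => ?_⟩
  have hle : Algebra.adjoin K (Set.range (algebraMap kb Kb)) ≤ integralClosure K Kb := by
    refine Algebra.adjoin_le ?_
    rintro _ ⟨c, rfl⟩
    exact ((Algebra.IsAlgebraic.isAlgebraic (R := k) c).isIntegral.map
      (IsScalarTower.toAlgHom k kb Kb)).tower_top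
  exact hle (hgen ▸ Algebra.mem_top)

theorem transcendental_bar [Algebra.IsAlgebraic k kb] {x : K} (hx : Transcendental k x) :
    Transcendental kb (algebraMap K Kb x) := fun h =>
  hx ((isAlgebraic_algebraMap_iff (algebraMap K Kb).injective).mp (h.restrictScalars k))

theorem isFunctionField_bar [IsAlgClosure k kb] (hK : FunFld.IsFunctionField k K)
    (hgen : Algebra.adjoin K (Set.range (algebraMap kb Kb)) = ⊤) : FunFld.IsFunctionField kb Kb := by
  have : IsAlgClosed kb := IsAlgClosure.isAlgClosed k
  have : Algebra.IsAlgebraic k kb := IsAlgClosure.isAlgebraic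
  obtain ⟨x, hx, hfin⟩ := hK.1
  refine ⟨⟨algebraMap K Kb x, transcendental_bar hx, ?_⟩, fun y hy => ?_⟩
  · set L := adjoin k ({x} : Set K)
    set E := adjoin kb ({algebraMap K Kb x} : Set Kb)
    have hLE : ∀ a : L, algebraMap K Kb (a : K) ∈ E := by
      intro a
      have hle : L.map (IsScalarTower.toAlgHom k K Kb) ≤ E.restrictScalars k := by
        rw [adjoin_map, adjoin_le_iff]
        rintro _ ⟨y, hy, rfl⟩
        rw [Set.mem_singleton_iff] at hy
        subst hy
        exact mem_adjoin_simple_self kb _
      exact hle ⟨a, a.2, rfl⟩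
    obtain ⟨n, b, hb⟩ := Module.Finite.exists_fin (R := L) (M := K)
    set S : Submodule E Kb := Submodule.span E (Set.range fun i => algebraMap K Kb (b i))
    have hK' : ∀ y : K, algebraMap K Kb y ∈ S := by
      intro y
      obtain ⟨c, rfl⟩ := (Submodule.mem_span_range_iff_exists_fun L).mp (hb ▸ Submodule.mem_top : y ∈ _)
      rw [map_sum]
      refine sum_mem fun i _ => ?_
      have := S.smul_mem ⟨_, hLE (c i)⟩ (Submodule.subset_span ⟨i, rfl⟩)
      rw [IntermediateField.smul_def] at this
      rw [IntermediateField.smul_def]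
      simpa [smul_eq_mul, map_mul] using this
    have hmul : ∀ a ∈ S, ∀ c ∈ S, a * c ∈ S := by
      intro a ha c hc
      refine Submodule.span_induction₂ (p := fun a c _ _ => a * c ∈ S) ?_ ?_ ?_ ?_ ?_ ?_ ?_ ha hc
      · rintro _ _ ⟨i, rfl⟩ ⟨j, rfl⟩
        rw [← map_mul]; exact hK' _
      · intros; simp
      · intros; simp
      · intro x y z _ _ _ h1 h2; rw [add_mul]; exact add_mem h1 h2
      · intro x y z _ _ _ h1 h2; rw [mul_add]; exact add_mem h1 h2
      · intro r x y _ _ h1; rw [smul_mul_assoc]; exact S.smul_mem r h1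
      · intro r x y _ _ h1; rw [mul_smul_comm]; exact S.smul_mem r h1
    have h1 : (1 : Kb) ∈ S := by simpa using hK' 1
    refine ⟨Submodule.fg_def.mpr ⟨Set.range fun i => algebraMap K Kb (b i), Set.finite_range _, ?_⟩⟩
    rw [eq_top_iff]
    intro z _
    let T : Subalgebra K Kb :=
      { carrier := S
        mul_mem' := fun ha hc => hmul _ ha _ hc
        add_mem' := fun ha hc => add_mem ha hc
        algebraMap_mem' := hK' }
    have hT : Algebra.adjoin K (Set.range (algebraMap kb Kb)) ≤ T := by
      refine Algebra.adjoin_le ?_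
      rintro _ ⟨c, rfl⟩
      have := S.smul_mem (algebraMap kb E c) h1
      rw [IntermediateField.smul_def, smul_eq_mul, mul_one] at this
      exact this
    exact hT (hgen ▸ Algebra.mem_top : z ∈ _)
  · have hyk : IsAlgebraic k y := hy.restrictScalars k
    obtain ⟨p, hp0, hp⟩ := hyk
    obtain ⟨c, hc⟩ := (IsAlgClosed.splits (p.map (algebraMap k kb))).mem_range_of_isRoot
      (map_ne_zero hp0) (i := algebraMap kb Kb) (x := y)
      (by rw [IsRoot.def, Polynomial.map_map, ← IsScalarTower.algebraMap_eq, Polynomial.eval_map]; exact hp)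
    exact ⟨c, hc⟩

/-- Constants of the finite field stay independent over `K`. -/
theorem linearIndependent_bar [Finite k] [Algebra.IsAlgebraic k kb] (hK : FunFld.IsFunctionField k K)
    {ι : Type*} [Fintype ι] {c : ι → kb} (hc : LinearIndependent k c) :
    LinearIndependent K fun i => algebraMap kb Kb (c i) := by
  classical
  set L : IntermediateField k kb := adjoin k (Set.range c)
  have hL : FiniteDimensional k L :=
    finiteDimensional_adjoin fun x _ => (Algebra.IsAlgebraic.isAlgebraic x).isIntegral
  have hsepL : Algebra.IsSeparable k L := inferInstance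
  obtain ⟨θ, hθ⟩ := Field.exists_primitive_element k L
  let ι' : L →ₐ[k] Kb := (IsScalarTower.toAlgHom k kb Kb).comp L.val
  have hint : IsIntegral k θ := Algebra.IsIntegral.isIntegral θ
  set pb := IntermediateField.adjoin.powerBasis hint
  set m := (minpoly k θ).natDegree
  -- the minimal polynomial stays minimal over `K`
  have hintK : IsIntegral K (ι' θ) := (hint.map ι').tower_top
  have hmin : minpoly K (ι' θ) = (minpoly k θ).map (algebraMap k K) := by
    have hdvd : minpoly K (ι' θ) ∣ (minpoly k θ).map (algebraMap k K) :=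
      minpoly.dvd K _ (by rw [aeval_map_algebraMap, aeval_algHom_apply, minpoly.aeval, map_zero])
    have hlift : ∀ n, (minpoly K (ι' θ)).coeff n ∈ Set.range (algebraMap k K) := fun n =>
      hK.2 _ (Polynomial.isIntegral_coeff_of_dvd _ _ (minpoly.monic hint) (minpoly.monic hintK) hdvd n).isAlgebraic
    obtain ⟨q, hq, -, hqmon⟩ := lifts_and_degree_eq_and_monic
      ((lifts_iff_coeff_lifts _).mpr hlift) (minpoly.monic hintK)
    rw [← hq]
    congr 1
    refine minpoly.unique k θ hqmon ?_ fun r hr h0 => ?_
    · have h := minpoly.aeval K (ι' θ)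
      rw [← hq, aeval_map_algebraMap, aeval_algHom_apply] at h
      exact ι'.injective (h.trans (map_zero ι').symm)
    · have : minpoly K (ι' θ) ∣ r.map (algebraMap k K) :=
        minpoly.dvd K _ (by rw [aeval_map_algebraMap, aeval_algHom_apply, h0, map_zero])
      have h' := degree_le_of_dvd this (map_ne_zero hr.ne_zero)
      rwa [← hq, degree_map, degree_map] at h'
  have hpow : LinearIndependent K fun i : Fin m => ι' θ ^ (i : ℕ) := by
    have := linearIndependent_pow (K := K) (ι' θ)
    have hd : (minpoly K (ι' θ)).natDegree = m := by rw [hmin, natDegree_map]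
    exact this.comp (Fin.cast hd.symm) (Fin.cast_injective _)
  -- powers of `θ` form a basis of `L`
  have hdim : Module.finrank k L = m := by
    rw [← IntermediateField.finrank_top', ← hθ, IntermediateField.adjoin.finrank hint]
  have hpk : LinearIndependent k fun i : Fin m => θ ^ (i : ℕ) := linearIndependent_pow (K := k) θ
  have hspank : Submodule.span k (Set.range fun i : Fin m => θ ^ (i : ℕ)) = ⊤ :=
    hpk.span_eq_top_of_card_eq_finrank' (by rw [Fintype.card_fin, hdim])
  -- complete `c` to a basis of `L`
  let cL : ι → L := fun i => ⟨c i, subset_adjoin k _ ⟨i, rfl⟩⟩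
  have hcL : LinearIndependent k cL :=
    LinearIndependent.of_comp L.val.toLinearMap hc
  obtain ⟨B, hB⟩ : ∃ B : Module.Basis (ι ⊕ Module.Basis.sumExtendIndex hcL) k L, ∀ i, B (Sum.inl i) = cL i :=
    ⟨Module.Basis.sumExtend hcL, fun i => by
      rw [Module.Basis.sumExtend, Module.Basis.reindex_apply, Module.Basis.coe_extend]
      rfl⟩
  let J := ι ⊕ Module.Basis.sumExtendIndex hcL
  have : Fintype J := FiniteDimensional.fintypeBasisIndex B
  have hcard : Fintype.card J = m := by rw [← Module.finrank_eq_card_basis B, hdim]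
  have hspanK : ∀ i : Fin m, ι' θ ^ (i : ℕ) ∈ Submodule.span K (Set.range fun j => ι' (B j)) := by
    intro i
    rw [← map_pow, ← B.sum_repr (θ ^ (i : ℕ)), map_sum]
    refine sum_mem fun j _ => ?_
    rw [map_smul, ← algebraMap_smul K (B.repr (θ ^ (i : ℕ)) j)]
    exact Submodule.smul_mem _ _ (Submodule.subset_span ⟨j, rfl⟩)
  have hBK : LinearIndependent K fun j => ι' (B j) := by
    rw [linearIndependent_iff_card_eq_finrank_span]
    refine le_antisymm ?_ (finrank_range_le_card _)
    have : FiniteDimensional K (Submodule.span K (Set.range fun j => ι' (B j))) :=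
      FiniteDimensional.span_of_finite K (Set.finite_range _)
    have h1 := Submodule.finrank_mono (Submodule.span_le.mpr (Set.range_subset_iff.mpr hspanK))
    rw [finrank_span_eq_card hpow, Fintype.card_fin, ← hcard] at h1
    exact h1
  have := hBK.comp Sum.inl Sum.inl_injective
  convert this using 2 with i
  change _ = ι' (B (Sum.inl i))
  rw [hB]
  rfl

end Groth.Agent.Lib.FunFld.Zeta.Bar
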