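import Groth.Agent.Lib.FunFld.Zeta.Twist
import Groth.Agent.Lib.FunFld.Rational
import Mathlib.FieldTheory.Finite.GaloisField

/-! The twisted Frobenius on the projective line, and the averaging argument. -/

namespace Groth.Agent.Lib.FunFld.Zeta.Line

open WithZero IntermediateField
open Groth.Agent.Lib.FunFld Groth.Agent.Lib.FunFld.Zeta

universe u v w z
variable {kb : Type u} {R : Type v} [Field kb] [IsAlgClosed kb] [Field R] [Algebra kb R]

/-- A twist on a rational function field fixes `Q + 1` places. -/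
theorem ncard_fixedSet_line (hR : FunFld.IsFunctionField kb R) {x : R} (htop : adjoin kb ({x} : Set R) = ⊤)
    {p Q : ℕ} [CharP kb p] (hpQ : p ∣ Q) (hQ : 2 ≤ Q) (σ : R ≃+* R)
    (hσ : Twist.IsTwist (kb := kb) Q σ) (hσx : σ x = x) :
    (Twist.fixedSet (kb := kb) σ).Finite ∧ (Twist.fixedSet (kb := kb) σ).ncard = Q + 1 := by
  classical
  have hxt := Rational.transcendental_of_adjoin_eq_top hR htop
  have hc : ∀ c : kb, adjoin kb ({x - algebraMap kb R c} : Set R) = ⊤ := fun c => by
    rw [eq_top_iff, ← htop, adjoin_simple_le_iff]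
    have := add_mem (mem_adjoin_simple_self kb (x - algebraMap kb R c))
      ((adjoin kb ({x - algebraMap kb R c} : Set R)).algebraMap_mem c)
    rwa [sub_add_cancel] at this
  -- pole
  obtain ⟨P₀, -, hP₀, hP₀'⟩ := Rational.exists_place_deg_one_of_adjoin_eq_top hR htop
  have hpoleU : ∀ P : _root_.FunFld.Place kb R, P.ord x < 0 → P = P₀ := fun P hP => by
    by_contra hne; exact absurd (hP₀' P hne) (not_le.mpr hP)
  -- zeros
  have hz : ∀ c : kb, ∃ P : _root_.FunFld.Place kb R, P.1 (x - algebraMap kb R c) < 1 ∧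
      ∀ P' : _root_.FunFld.Place kb R, P'.1 (x - algebraMap kb R c) < 1 → P' = P := fun c => by
    have hci : adjoin kb ({(x - algebraMap kb R c)⁻¹} : Set R) = ⊤ := by
      rw [Degree.adjoin_inv, hc c]
    obtain ⟨P, -, hP, hP'⟩ := Rational.exists_place_deg_one_of_adjoin_eq_top hR hci
    rw [Place.ord_inv] at hP
    refine ⟨P, ((Place.ord_pos_iff P).mp (by omega)).2, fun P' h' => ?_⟩
    by_contra hne
    have := hP' P' hne
    rw [Place.ord_inv] at this
    have hne0 : x - algebraMap kb R c ≠ 0 := fun h0 => by rw [h0] at hP; simp [FunFld.Place.ord] at hP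
    have := (Place.ord_pos_iff P').mpr ⟨hne0, h'⟩
    omega
  choose pt hpt hptU using hz
  have hinj : Function.Injective pt := fun a b h => by
    by_contra hne
    have h1 := Valuation.map_sub_lt (pt a).1 (h ▸ hpt b) (hpt a)
    rw [sub_sub_sub_cancel_left, ← map_sub] at h1
    exact (Place.val_algebraMap (pt a) (sub_ne_zero.mpr hne) ▸ h1).false
  -- all places
  have hall : ∀ P : _root_.FunFld.Place kb R, P = P₀ ∨ ∃ c, P = pt c := fun P => by
    rcases lt_or_ge (P.ord x) 0 with h | h
    · exact Or.inl (hpoleU P h)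
    · obtain ⟨c, hc'⟩ := Hasse.Param.isDegOne hR P x ((Place.val_le_one_iff P).mpr h)
      exact Or.inr ⟨c, hptU c P hc'⟩
  have hne₀ : ∀ c, pt c ≠ P₀ := fun c h => by
    have h1 := hpt c
    rw [h] at h1
    have hx1 : 1 < P₀.1 x := (Place.one_lt_val_iff P₀).mpr (by omega)
    have h2 : P₀.1 x ≤ 1 := by
      have h3 := P₀.1.map_add_le h1.le (P₀.2.1 c)
      rwa [sub_add_cancel] at h3
    exact absurd h2 (not_le.mpr hx1)
  -- the action
  have hact : Twist.pull σ hσ P₀ = P₀ := hpoleU _ (by
    rw [Place.ord_def, Twist.pull_apply, hσx, ← Place.ord_def]; omega)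
  have hfix : ∀ c, pt c ∈ Twist.fixedSet (kb := kb) σ ↔ c ^ Q = c := fun c => by
    rw [Twist.mem_fixedSet_iff σ hσ]
    have h1 : (Twist.pull σ hσ (pt (c ^ Q))) = pt c := by
      refine hptU c _ ?_
      rw [Twist.pull_apply, map_sub, hσx, hσ, ← map_pow]
      exact hpt _
    refine ⟨fun h => hinj ?_, fun h => by rw [h] at h1; exact h1⟩
    have h2 : Function.Injective (Twist.pull σ hσ) := fun P P' e => by
      refine Subtype.ext (Valuation.ext fun z => ?_)
      have := congrArg (fun T : _root_.FunFld.Place kb R => T.1 (σ.symm z)) e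
      simpa [Twist.pull_apply] using this
    exact h2 (h1.trans h.symm)
  -- the roots
  set f : Polynomial kb := Polynomial.X ^ Q - Polynomial.X
  have hroots : Fintype.card (f.rootSet kb) = Q := by
    rw [Polynomial.card_rootSet_eq_natDegree (galois_poly_separable p Q hpQ) (IsAlgClosed.splits _)]
    exact FiniteField.X_pow_card_sub_X_natDegree_eq kb (by omega)
  have hmemroot : ∀ c, c ∈ f.rootSet kb ↔ c ^ Q = c := fun c => by
    rw [Polynomial.mem_rootSet_of_ne (FiniteField.X_pow_card_sub_X_ne_zero kb (by omega))]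
    simp [sub_eq_zero]
  have hset : Twist.fixedSet (kb := kb) σ = insert P₀ (pt '' f.rootSet kb) := by
    ext P
    rcases hall P with rfl | ⟨c, rfl⟩
    · simp only [Set.mem_insert_iff, true_or, iff_true]
      exact (Twist.mem_fixedSet_iff σ hσ P).mpr hact
    · rw [hfix, Set.mem_insert_iff, or_iff_right (hne₀ c), hinj.mem_set_image, hmemroot]
  have hfin : (pt '' f.rootSet kb).Finite := (Set.toFinite _).image _
  refine ⟨hset ▸ hfin.insert _, ?_⟩
  have hnot : P₀ ∉ pt '' f.rootSet kb := fun ⟨c, _, hc⟩ => hne₀ c hc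
  rw [hset, Set.ncard_insert_of_notMem hnot hfin,
    Set.ncard_image_of_injective _ hinj, ← Nat.card_coe_set_eq, Nat.card_eq_fintype_card, hroots]

variable {L : Type w} {M : Type z} [Field L] [Field M] [Algebra kb L] [Algebra kb M]
  [Algebra R M] [Algebra R L] [Algebra L M] [IsScalarTower R L M] [IsScalarTower kb R M]
  [IsScalarTower kb L M] [FiniteDimensional R M] [IsGalois R M] [FiniteDimensional L M] [IsGalois L M]

omit [IsAlgClosed kb] in
/-- Averaging: an upper bound for all twists upstairs bounds the middle field on both sides. -/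
theorem abs_middle_le (hR : FunFld.IsFunctionField kb R) (hL : FunFld.IsFunctionField kb L)
    {Q : ℕ} (σR : R ≃+* R) (hσR : Twist.IsTwist (kb := kb) Q σR)
    (σL : L ≃+* L) (hσL : Twist.IsTwist (kb := kb) Q σL)
    (σM : M ≃+* M) (hσM : Twist.IsTwist (kb := kb) Q σM)
    (hresR : ∀ a, σM (algebraMap R M a) = algebraMap R M (σR a))
    (hresL : ∀ a, σM (algebraMap L M a) = algebraMap L M (σL a))
    (hfR : (Twist.fixedSet (kb := kb) σR).Finite)
    (hNR : (Twist.fixedSet (kb := kb) σR).ncard = Q + 1)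
    (hfL : (Twist.fixedSet (kb := kb) σL).Finite) {B : ℝ} (hB : 0 ≤ B)
    (hup : ∀ g : M ≃ₐ[R] M, (Twist.fixedSet (kb := kb) (Twist.comp σM g)).Finite ∧
      ((Twist.fixedSet (kb := kb) (Twist.comp σM g)).ncard : ℝ) ≤ Q + 1 + B) :
    |((Twist.fixedSet (kb := kb) σL).ncard : ℝ) - (Q + 1)| ≤ Fintype.card (M ≃ₐ[R] M) * B := by
  classical
  set G := M ≃ₐ[R] M
  set N : G → ℝ := fun g => ((Twist.fixedSet (kb := kb) (Twist.comp σM g)).ncard : ℝ)
  have hG := Twist.sum_ncard_fixedSet hR σM hσM σR hσR hresR hfR fun g => (hup g).1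
  have hG' : ∑ g, N g = Fintype.card G * ((Q : ℝ) + 1) := by
    have := congrArg (Nat.cast : ℕ → ℝ) hG
    rw [hNR] at this
    push_cast at this
    exact this
  have hone : ∀ g : G, |N g - (Q + 1)| ≤ Fintype.card G * B := by
    intro g
    have h1 := (hup g).2
    have hcard : (1 : ℝ) ≤ Fintype.card G := by exact_mod_cast Fintype.card_pos
    rw [abs_le]
    constructor
    · have h2 : ∑ g' ∈ Finset.univ.erase g, N g' ≤ ∑ g' ∈ Finset.univ.erase g, ((Q : ℝ) + 1 + B) :=
        Finset.sum_le_sum fun g' _ => (hup g').2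
      rw [Finset.sum_const, nsmul_eq_mul, Finset.card_erase_of_mem (Finset.mem_univ g), Finset.card_univ,
        Nat.cast_sub Fintype.card_pos, Nat.cast_one] at h2
      rw [← Finset.add_sum_erase _ _ (Finset.mem_univ g)] at hG'
      nlinarith
    · change (N g) ≤ _ at h1
      nlinarith
  let ι : (M ≃ₐ[L] M) → G := fun h => h.restrictScalars R
  have hH := Twist.sum_ncard_fixedSet hL σM hσM σL hσL hresL hfL fun h => (hup (ι h)).1
  have hH' : ∑ h : M ≃ₐ[L] M, N (ι h) =
      Fintype.card (M ≃ₐ[L] M) * ((Twist.fixedSet (kb := kb) σL).ncard : ℝ) := by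
    have := congrArg (Nat.cast : ℕ → ℝ) hH
    push_cast at this
    exact this
  have hHpos : (0 : ℝ) < Fintype.card (M ≃ₐ[L] M) := by exact_mod_cast Fintype.card_pos
  have h3 : |∑ h : M ≃ₐ[L] M, (N (ι h) - (Q + 1))| ≤
      Fintype.card (M ≃ₐ[L] M) * ((Fintype.card G : ℝ) * B) := by
    refine (Finset.abs_sum_le_sum_abs _ _).trans ((Finset.sum_le_sum fun h _ => hone (ι h)).trans_eq ?_)
    rw [Finset.sum_const, nsmul_eq_mul, Finset.card_univ]
  rw [Finset.sum_sub_distrib, hH', Finset.sum_const, nsmul_eq_mul, Finset.card_univ, ← mul_sub,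
    abs_mul, abs_of_pos hHpos] at h3
  exact le_of_mul_le_mul_left h3 hHpos

end Groth.Agent.Lib.FunFld.Zeta.Line
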