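import Groth.Agent.Lib.FunFld.Zeta.Places
import Groth.Agent.Lib.FunFld.Zeta.Line
import Groth.Agent.Lib.FunFld.Hasse.Separable
import Mathlib.FieldTheory.Normal.Closure
import Mathlib.FieldTheory.SeparableClosure
import Mathlib.FieldTheory.Galois.Basic

/-! The Bombieri–Stepanov bound for the constant field extensions. -/

namespace Groth.Agent.Lib.FunFld.Zeta.Bound

open WithZero IntermediateField
open Groth.Agent.Lib.FunFld Groth.Agent.Lib.FunFld.Zeta

universe u v w z
variable {k : Type u} {K : Type v} {kb : Type w} {Kb : Type z} [Field k] [Finite k] [Field K] [Field kb]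
  [Field Kb] [Algebra k K] [Algebra k kb] [IsAlgClosure k kb] [Algebra K Kb] [Algebra kb Kb]
  [Algebra k Kb] [IsScalarTower k K Kb] [IsScalarTower k kb Kb]

omit [Finite k] [IsAlgClosure k kb] [Algebra k K] [Algebra k kb] [Algebra K Kb] [Algebra k Kb]
  [IsScalarTower k K Kb] [IsScalarTower k kb Kb] in
theorem isFunctionField_of_finite {L : Type*} [Field L] [Algebra kb L] [IsAlgClosed kb] [Algebra Kb L]
    [IsScalarTower kb Kb L] [FiniteDimensional Kb L] (h : FunFld.IsFunctionField kb Kb) :
    FunFld.IsFunctionField kb L :=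
  ⟨Ext.isFF_of_finite h, fun y hy => by
    have hb : Function.Surjective (algebraMap kb (adjoin kb ({y} : Set L))) := by
      have : Algebra.IsIntegral kb (adjoin kb ({y} : Set L)) := by
        have := adjoin.finiteDimensional hy.isIntegral
        exact Algebra.IsIntegral.of_finite kb _
      exact IsAlgClosed.algebraMap_bijective_of_isIntegral.2
    obtain ⟨c, hc⟩ := hb ⟨y, mem_adjoin_simple_self kb y⟩
    exact ⟨c, congrArg Subtype.val hc⟩⟩

theorem exists_bound (hK : FunFld.IsFunctionField k K)
    (hgen : Algebra.adjoin K (Set.range (algebraMap kb Kb)) = ⊤) (σ : Kb ≃ₐ[K] Kb)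
    (hσ : ∀ c : kb, σ (algebraMap kb Kb c) = algebraMap kb Kb c ^ Nat.card k) :
    ∃ C : ℝ, ∀ m : ℕ, 0 < m → (Twist.fixedSet (kb := kb) (σ ^ m).toRingEquiv).Finite ∧
      |((Twist.fixedSet (kb := kb) (σ ^ m).toRingEquiv).ncard : ℝ) - ((Nat.card k : ℝ) ^ m + 1)| ≤
        C * Real.sqrt ((Nat.card k : ℝ) ^ m) := by
  classical
  have := Fintype.ofFinite k
  have : IsAlgClosed kb := IsAlgClosure.isAlgClosed k
  have : Algebra.IsAlgebraic k kb := IsAlgClosure.isAlgebraic
  have hKb := Bar.isFunctionField_bar (kb := kb) (Kb := Kb) hK hgen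
  obtain ⟨x, hx⟩ := Hasse.Separable.exists_isSep hK
  have hxt : Transcendental k x := fun halg => by
    obtain ⟨y, hy⟩ := Riemann.exists_transcendental hK
    have : Algebra.IsSeparable (adjoin k ({x} : Set K)) K := hx
    have := adjoin.finiteDimensional halg.isIntegral
    have : Algebra.IsAlgebraic k (adjoin k ({x} : Set K)) := Algebra.IsAlgebraic.of_finite k _
    exact hy ((Algebra.IsAlgebraic.trans k (adjoin k ({x} : Set K)) K).isAlgebraic y)
  set x' := algebraMap K Kb x
  have hx't : Transcendental kb x' := Bar.transcendental_bar (Kb := Kb) (kb := kb) hxt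
  set R := adjoin kb ({x'} : Set Kb)
  have hfinR : FiniteDimensional R Kb := Bound.finiteDimensional_adjoin_transcendental hKb hx't
  -- `Kb/R` is separable
  have hsepKb : Algebra.IsSeparable R Kb := by
    set S := separableClosure R Kb
    let T : Subalgebra K Kb :=
      { carrier := S
        mul_mem' := fun ha hb => mul_mem ha hb
        add_mem' := fun ha hb => add_mem ha hb
        algebraMap_mem' := fun a => by
          have : Algebra.IsSeparable (adjoin k ({x} : Set K)) K := hx
          have hs := Algebra.IsSeparable.isSeparable (adjoin k ({x} : Set K)) a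
          have hle : (adjoin k ({x} : Set K)).map (IsScalarTower.toAlgHom k K Kb) ≤ R.restrictScalars k := by
            rw [adjoin_map, adjoin_le_iff]
            rintro _ ⟨y, hy, rfl⟩
            rw [Set.mem_singleton_iff] at hy
            subst hy
            exact mem_adjoin_simple_self kb _
          let f : adjoin k ({x} : Set K) →+* R :=
            ((algebraMap K Kb).comp (adjoin k ({x} : Set K)).val.toRingHom).codRestrict R
              fun b => hle ⟨b, b.2, rfl⟩
          let _ : Algebra (adjoin k ({x} : Set K)) R := f.toAlgebra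
          have : IsScalarTower (adjoin k ({x} : Set K)) R Kb := IsScalarTower.of_algebraMap_eq fun _ => rfl
          have : IsScalarTower (adjoin k ({x} : Set K)) K Kb := IsScalarTower.of_algebraMap_eq fun _ => rfl
          change algebraMap K Kb a ∈ separableClosure R Kb
          rw [mem_separableClosure_iff]
          exact IsSeparable.tower_top R (IsSeparable.map (IsScalarTower.toAlgHom (adjoin k ({x} : Set K)) K Kb)
            (algebraMap K Kb).injective hs) }
    have hT : Algebra.adjoin K (Set.range (algebraMap kb Kb)) ≤ T := by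
      refine Algebra.adjoin_le ?_
      rintro _ ⟨c, rfl⟩
      exact S.algebraMap_mem (algebraMap kb R c)
    rw [← separableClosure.eq_top_iff, eq_top_iff]
    exact fun z _ => hT (hgen ▸ Algebra.mem_top : z ∈ _)
  -- the normal closure
  set Ω := AlgebraicClosure Kb
  set M := normalClosure R Kb Ω
  have hgalRM : IsGalois R M := by
    have h1 : M ≤ separableClosure R Ω := normalClosure_le_iff.mpr fun f => by
      rintro _ ⟨a, rfl⟩
      exact mem_separableClosure_iff.mpr (IsSeparable.map f f.injective (Algebra.IsSeparable.isSeparable R a))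
    have : Algebra.IsSeparable R M := (le_separableClosure_iff R Ω M).mp h1
    have : Algebra.IsAlgebraic R Ω := Algebra.IsAlgebraic.trans R Kb Ω
    have : IsAlgClosure R Ω := ⟨inferInstance, inferInstance⟩
    have : Normal R Ω := IsAlgClosure.normal R Ω
    exact ⟨⟩
  have hRff : FunFld.IsFunctionField kb R := by
    refine ⟨⟨⟨x', mem_adjoin_simple_self kb x'⟩, fun h => hx't (h.algHom R.val), ?_⟩, fun y hy => ?_⟩
    · have : adjoin kb ({(⟨x', mem_adjoin_simple_self kb x'⟩ : R)} : Set R) = ⊤ := by
        apply map_injective R.val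
        rw [adjoin_map, Set.image_singleton, ← AlgHom.fieldRange_eq_map, fieldRange_val]
        rfl
      rw [this]
      exact Module.Finite.of_surjective (Algebra.linearMap (⊤ : IntermediateField kb R) R)
        fun y => ⟨⟨y, trivial⟩, rfl⟩
    · obtain ⟨c, hc⟩ := hKb.2 (y : Kb) (hy.algHom R.val)
      exact ⟨c, Subtype.ext hc⟩
  have htopR : adjoin kb ({(⟨x', mem_adjoin_simple_self kb x'⟩ : R)} : Set R) = ⊤ := by
    apply map_injective R.val
    rw [adjoin_map, Set.image_singleton, ← AlgHom.fieldRange_eq_map, fieldRange_val]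
    rfl
  have : IsScalarTower kb Kb M := IsScalarTower.of_algebraMap_eq fun c => Subtype.ext (by
    exact IsScalarTower.algebraMap_apply kb Kb Ω c)
  have hfinLM : FiniteDimensional Kb M := Module.Finite.of_restrictScalars_finite R Kb M
  have hgalLM : IsGalois Kb M := IsGalois.tower_top_of_isGalois R Kb M
  have hMff : FunFld.IsFunctionField kb M := isFunctionField_of_finite hKb
  set p := ringChar k
  have : Fact p.Prime := ⟨CharP.char_is_prime k p⟩
  have : CharP kb p := charP_of_injective_algebraMap (algebraMap k kb).injective p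
  have : CharP M p := charP_of_injective_algebraMap (algebraMap kb M).injective p
  refine ⟨(Fintype.card (M ≃ₐ[R] M) : ℝ) * Twist.bnd (_root_.FunFld.genus kb M), fun m hm => ?_⟩
  set Q := Nat.card k ^ m
  obtain ⟨e, -, he⟩ : ∃ e, 0 < e ∧ Nat.card k = p ^ e := by
    obtain ⟨e, -, he⟩ := FiniteField.card k p
    exact ⟨e, e.pos, by rw [Nat.card_eq_fintype_card, he]⟩
  have hq2 : 2 ≤ Nat.card k := by rw [Nat.card_eq_fintype_card]; exact Fintype.one_lt_card
  have hQ : 2 ≤ Q := le_trans hq2 (Nat.le_self_pow hm.ne' _)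
  have hpQ : p ∣ Q := by
    have h1 : p ∣ Nat.card k := by
      rw [he]
      exact dvd_pow_self p (by
        rintro rfl
        rw [pow_zero] at he; omega)
    exact h1.trans (dvd_pow_self _ hm.ne')
  -- the twists
  have hσm := Places.isTwist_pow σ hσ m
  set σL : Kb ≃+* Kb := (σ ^ m).toRingEquiv with hσL
  have hσx : σL x' = x' := (σ ^ m).commutes x
  have hR : ∀ a : Kb, σL a ∈ R ↔ a ∈ R := by
    have hsub : ∀ τ : Kb ≃+* Kb, τ x' = x' → (∀ c : kb, τ (algebraMap kb Kb c) ∈ R) →
        ∀ a ∈ R, τ a ∈ R := by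
      intro τ hτx hτc a ha
      induction ha using IntermediateField.adjoin_induction with
      | mem y hy => rw [Set.mem_singleton_iff.mp hy, hτx]; exact mem_adjoin_simple_self kb x'
      | algebraMap c => exact hτc c
      | add a b _ _ h1 h2 => rw [map_add]; exact add_mem h1 h2
      | mul a b _ _ h1 h2 => rw [map_mul]; exact mul_mem h1 h2
      | inv a _ h1 => rw [map_inv₀]; exact inv_mem h1
    intro a
    refine ⟨fun h => ?_, hsub σL hσx (fun c => by rw [hσm, ← map_pow]; exact R.algebraMap_mem _) a⟩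
    have := hsub σL.symm (by rw [RingEquiv.symm_apply_eq, hσx]) (fun c => ?_) _ h
    · rwa [σL.symm_apply_apply] at this
    · obtain ⟨d, hd⟩ := IsAlgClosed.exists_pow_nat_eq c (show 0 < Q by omega)
      have : σL.symm (algebraMap kb Kb c) = algebraMap kb Kb d := by
        rw [RingEquiv.symm_apply_eq, hσm, ← map_pow, hd]
      rw [this]; exact R.algebraMap_mem d
  let σR : R ≃+* R :=
    { toFun := fun a => ⟨σL a, (hR a).mpr a.2⟩
      invFun := fun a => ⟨σL.symm a, (hR _).mp (by rw [σL.apply_symm_apply]; exact a.2)⟩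
      left_inv := fun a => Subtype.ext (σL.symm_apply_apply _)
      right_inv := fun a => Subtype.ext (σL.apply_symm_apply _)
      map_mul' := fun a b => Subtype.ext (map_mul σL _ _)
      map_add' := fun a b => Subtype.ext (map_add σL _ _) }
  have hσR : Twist.IsTwist (kb := kb) Q σR := fun c => Subtype.ext (hσm c)
  let τ : Ω ≃+* Ω := IsAlgClosure.equivOfEquiv Ω Ω σL
  have hτ : ∀ a : Kb, τ (algebraMap Kb Ω a) = algebraMap Kb Ω (σL a) :=
    IsAlgClosure.equivOfEquiv_algebraMap Ω Ω σL
  have hτ' : ∀ a : Kb, τ.symm (algebraMap Kb Ω a) = algebraMap Kb Ω (σL.symm a) :=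
    IsAlgClosure.equivOfEquiv_symm_algebraMap Ω Ω σL
  -- automorphisms preserving `R` and `Kb` preserve the normal closure
  have hstab : ∀ (ρ : Ω ≃+* Ω) (ρK : Kb ≃+* Kb), (∀ a, ρK a ∈ R ↔ a ∈ R) →
      (∀ a, ρ (algebraMap Kb Ω a) = algebraMap Kb Ω (ρK a)) → ∀ z ∈ M, ρ z ∈ M := by
    intro ρ ρK hρR hρ z hz
    let U : IntermediateField R Ω :=
      { carrier := {z | ρ z ∈ M}
        mul_mem' := fun {a b} ha hb => by change ρ (a * b) ∈ M; rw [map_mul]; exact mul_mem ha hb
        add_mem' := fun {a b} ha hb => by change ρ (a + b) ∈ M; rw [map_add]; exact add_mem ha hb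
        algebraMap_mem' := fun a => by
          change ρ (algebraMap Kb Ω (a : Kb)) ∈ M
          rw [hρ]
          exact M.algebraMap_mem ⟨ρK a, (hρR a).mpr a.2⟩
        inv_mem' := fun a ha => by change ρ a⁻¹ ∈ M; rw [map_inv₀]; exact inv_mem ha }
    have hMU : M ≤ U := by
      refine normalClosure_le_iff.mpr fun f => ?_
      rintro _ ⟨b, rfl⟩
      change ρ (f b) ∈ M
      let f' : Kb →ₐ[R] Ω :=
        { toRingHom := (ρ.toRingHom.comp f.toRingHom).comp ρK.symm.toRingHom
          commutes' := fun a => by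
            have ha : ρK.symm (a : Kb) ∈ R := by rw [← hρR, ρK.apply_symm_apply]; exact a.2
            change ρ (f (algebraMap R Kb ⟨ρK.symm (a : Kb), ha⟩)) = _
            rw [f.commutes]
            change ρ (algebraMap Kb Ω (ρK.symm (a : Kb))) = algebraMap Kb Ω (a : Kb)
            rw [hρ, ρK.apply_symm_apply] }
      have := f'.fieldRange_le_normalClosure ⟨ρK b, rfl⟩
      change ρ (f (ρK.symm (ρK b))) ∈ M at this
      rwa [ρK.symm_apply_apply] at this
    exact hMU hz
  have hRs : ∀ a, σL.symm a ∈ R ↔ a ∈ R := fun a => by rw [← hR, σL.apply_symm_apply]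
  let σM : M ≃+* M :=
    { toFun := fun z => ⟨τ z, hstab τ σL hR hτ z z.2⟩
      invFun := fun z => ⟨τ.symm z, hstab τ.symm σL.symm hRs hτ' z z.2⟩
      left_inv := fun z => Subtype.ext (τ.symm_apply_apply _)
      right_inv := fun z => Subtype.ext (τ.apply_symm_apply _)
      map_mul' := fun a b => Subtype.ext (map_mul τ _ _)
      map_add' := fun a b => Subtype.ext (map_add τ _ _) }
  have hσM : Twist.IsTwist (kb := kb) Q σM := fun c => Subtype.ext (by
    change τ (algebraMap Kb Ω (algebraMap kb Kb c)) = (algebraMap Kb Ω (algebraMap kb Kb c)) ^ Q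
    rw [hτ, hσm, map_pow])
  have hresR : ∀ a, σM (algebraMap R M a) = algebraMap R M (σR a) := fun a => Subtype.ext (hτ a)
  have hresL : ∀ a, σM (algebraMap Kb M a) = algebraMap Kb M (σL a) := fun a => Subtype.ext (hτ a)
  obtain ⟨hfR, hNR⟩ := Line.ncard_fixedSet_line hRff htopR hpQ hQ σR hσR (Subtype.ext hσx)
  have hadd : ∀ a b : M, (a + b) ^ Q = a ^ Q + b ^ Q := fun a b => by
    have : Q = p ^ (e * m) := by rw [pow_mul, ← he]
    rw [this]; exact add_pow_char_pow a b p (e * m)
  have hxM : Transcendental kb (algebraMap Kb M x') :=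
    (transcendental_algebraMap_iff (algebraMap Kb M).injective).mpr hx't
  have hfix : ∀ g : M ≃ₐ[R] M, Twist.comp σM g (algebraMap Kb M x') = algebraMap Kb M x' := fun g => by
    have : algebraMap Kb M x' = algebraMap R M ⟨x', mem_adjoin_simple_self kb x'⟩ :=
      rfl
    rw [Twist.comp_apply, this, g.commutes, hresR]
    exact congrArg _ (Subtype.ext hσx)
  have hup := fun g : M ≃ₐ[R] M => Twist.ncard_fixedSet_le hMff hQ hadd (Twist.comp σM g)
    (Twist.isTwist_comp σM hσM g) hxM (hfix g)
  have hxL : σL x' = x' := hσx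
  obtain ⟨hfL, -⟩ := Twist.ncard_fixedSet_le hKb hQ (fun a b => (algebraMap Kb M).injective (by
    simp only [map_pow, map_add, hadd])) σL hσm hx't hxL
  refine ⟨hfL, ?_⟩
  have hB : 0 ≤ Twist.bnd (_root_.FunFld.genus kb M) * Real.sqrt (Q : ℕ) :=
    mul_nonneg (Twist.bnd_nonneg _) (Real.sqrt_nonneg _)
  have key := Line.abs_middle_le hRff hKb σR hσR σL hσm σM hσM hresR hresL hfR hNR hfL hB hup
  rw [show ((Nat.card k : ℝ) ^ m) = (Q : ℕ) by simp [Q], mul_assoc]
  exact key

end Groth.Agent.Lib.FunFld.Zeta.Bound
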