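import Groth.Agent.Lib.FunFld.Zeta.Roots

/-! Point counts of a constant field extension. -/

namespace Groth.Agent.Lib.FunFld.Zeta.ConstExt

open Groth.Agent.Lib.FunFld Groth.Agent.Lib.FunFld.Zeta

variable {k K k' K' : Type*} [Field k] [Finite k] [Field K] [Algebra k K] [Field k'] [Finite k']
  [Field K'] [Algebra k k'] [Algebra K K'] [Algebra k' K']

theorem Npts_eq (hK : FunFld.IsFunctionField k K) (hK' : FunFld.IsFunctionField k' K')
    (hce : FunFld.IsConstExt k K k' K') {j : ℕ} (hj : 0 < j) :
    Points.Npts k' K' j = Points.Npts k K (Module.finrank k k' * j) := by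
  classical
  have : Module.Finite k k' := Module.Finite.of_finite
  set n := Module.finrank k k'
  have hn : 0 < n := Module.finrank_pos
  let Ω := AlgebraicClosure K'
  let kb : IntermediateField k' Ω := algebraicClosure k' Ω
  let Kb : IntermediateField K' Ω := IntermediateField.adjoin K' (kb : Set Ω)
  let _ : Algebra kb Kb :=
    (kb.val.toRingHom.codRestrict Kb fun c => IntermediateField.subset_adjoin K' _ c.2).toAlgebra
  have : IsScalarTower k' kb Kb := IsScalarTower.of_algebraMap_eq fun c => Subtype.ext rfl
  have hgen' : Algebra.adjoin K' (Set.range (algebraMap kb Kb)) = ⊤ := by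
    have halg : ∀ z ∈ (kb : Set Ω), IsAlgebraic K' z := fun z _ => Algebra.IsAlgebraic.isAlgebraic z
    apply Subalgebra.map_injective (f := Kb.val) Subtype.val_injective
    rw [AlgHom.map_adjoin, Algebra.map_top, ← AlgHom.fieldRange_toSubalgebra,
      IntermediateField.fieldRange_val,
      IntermediateField.adjoin_toSubalgebra_of_isAlgebraic halg, ← Set.range_comp]
    congr 1
    exact Set.ext fun z => ⟨fun ⟨c, hc⟩ => hc ▸ c.2, fun h => ⟨⟨z, h⟩, rfl⟩⟩
  let _ : Algebra k kb := ((algebraMap k' kb).comp (algebraMap k k')).toAlgebra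
  let _ : Algebra K Kb := ((algebraMap K' Kb).comp (algebraMap K K')).toAlgebra
  let _ : Algebra k Kb := ((algebraMap K Kb).comp (algebraMap k K)).toAlgebra
  have : IsScalarTower k k' kb := IsScalarTower.of_algebraMap_eq fun _ => rfl
  have : IsScalarTower K K' Kb := IsScalarTower.of_algebraMap_eq fun _ => rfl
  have : IsScalarTower k K Kb := IsScalarTower.of_algebraMap_eq fun _ => rfl
  have : IsScalarTower k kb Kb := IsScalarTower.of_algebraMap_eq fun c => by
    change algebraMap K' Kb (algebraMap K K' (algebraMap k K c)) =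
      algebraMap kb Kb (algebraMap k' kb (algebraMap k k' c))
    rw [hce.1, ← IsScalarTower.algebraMap_apply k' K' Kb, ← IsScalarTower.algebraMap_apply k' kb Kb]
  have : IsAlgClosure k' kb := inferInstance
  have : IsAlgClosed kb := IsAlgClosure.isAlgClosed k'
  have : Algebra.IsAlgebraic k' kb := IsAlgClosure.isAlgebraic
  have : Algebra.IsAlgebraic k kb := Algebra.IsAlgebraic.trans k k' kb
  have : IsAlgClosure k kb := ⟨inferInstance, inferInstance⟩
  have hmapk' : ∀ c : k', algebraMap K' Kb (algebraMap k' K' c) = algebraMap kb Kb (algebraMap k' kb c) :=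
    fun c => by rw [← IsScalarTower.algebraMap_apply k' K' Kb, ← IsScalarTower.algebraMap_apply k' kb Kb]
  have hgen : Algebra.adjoin K (Set.range (algebraMap kb Kb)) = ⊤ := by
    refine eq_top_iff.mpr fun z hzt => ?_
    clear hzt
    have hz : z ∈ Algebra.adjoin K' (Set.range (algebraMap kb Kb)) := hgen' ▸ Algebra.mem_top
    induction hz using Algebra.adjoin_induction with
    | mem x hx => exact Algebra.subset_adjoin hx
    | algebraMap r =>
      have hr : r ∈ Algebra.adjoin K (Set.range (algebraMap k' K')) := hce.2.1 ▸ Algebra.mem_top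
      induction hr using Algebra.adjoin_induction with
      | mem x hx =>
        obtain ⟨c, rfl⟩ := hx
        exact Algebra.subset_adjoin ⟨algebraMap k' kb c, (hmapk' c).symm⟩
      | algebraMap a =>
        rw [← IsScalarTower.algebraMap_apply K K' Kb]; exact Subalgebra.algebraMap_mem _ a
      | add x y _ _ hx hy => rw [map_add]; exact add_mem hx hy
      | mul x y _ _ hx hy => rw [map_mul]; exact mul_mem hx hy
    | add x y _ _ hx hy => exact add_mem hx hy
    | mul x y _ _ hx hy => exact mul_mem hx hy
  obtain ⟨σ, hσ⟩ := Places.exists_frob (kb := kb) (Kb := Kb) hK hgen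
  have hcard : Nat.card k' = Nat.card k ^ n := Module.natCard_eq_pow_finrank
  have hfix : ∀ r : K', (σ ^ n) (algebraMap K' Kb r) = algebraMap K' Kb r := by
    intro r
    have hr : r ∈ Algebra.adjoin K (Set.range (algebraMap k' K')) := hce.2.1 ▸ Algebra.mem_top
    induction hr using Algebra.adjoin_induction with
    | mem x hx =>
      obtain ⟨c, rfl⟩ := hx
      have := Fintype.ofFinite k'
      rw [hmapk', Places.pow_apply_const σ hσ n, ← map_pow, ← map_pow, ← hcard,
        Nat.card_eq_fintype_card, FiniteField.pow_card]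
    | algebraMap a =>
      rw [← IsScalarTower.algebraMap_apply K K' Kb, AlgEquiv.commutes]
    | add x y _ _ hx hy => rw [map_add, map_add, hx, hy]
    | mul x y _ _ hx hy => rw [map_mul, map_mul, hx, hy]
  let τ : Kb ≃ₐ[K'] Kb := AlgEquiv.ofRingEquiv (f := (σ ^ n).toRingEquiv) hfix
  have hτ : ∀ c : kb, τ (algebraMap kb Kb c) = algebraMap kb Kb c ^ Nat.card k' := fun c => by
    rw [hcard]; exact Places.pow_apply_const σ hσ n c
  rw [← Count.ncard_fixedSet hK' hgen' τ hτ hj,
    ← Count.ncard_fixedSet hK hgen σ hσ (Nat.mul_pos hn hj)]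
  have hpow : ∀ (i : ℕ) (z : Kb), (τ ^ i) z = (σ ^ (n * i)) z := by
    intro i
    induction i with
    | zero => simp
    | succ i ih =>
      intro z
      rw [pow_succ', AlgEquiv.mul_apply, ih, Nat.mul_succ, add_comm, pow_add, AlgEquiv.mul_apply]
      rfl
  rw [show (τ ^ j).toRingEquiv = (σ ^ (n * j)).toRingEquiv from RingEquiv.ext (hpow j)]

/-- The reciprocal roots of a constant field extension are the powers. -/
theorem numerZ_eq (hK : FunFld.IsFunctionField k K) (hK' : FunFld.IsFunctionField k' K')
    (hce : FunFld.IsConstExt k K k' K') {ι : Type*} [Fintype ι] (α : ι → ℂ)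
    (hα : PowerSeries.map (Int.castRingHom ℂ) (_root_.FunFld.numerZ k K) =
      ((∏ i, (1 - Polynomial.C (α i) * Polynomial.X) : Polynomial ℂ) : PowerSeries ℂ)) :
    PowerSeries.map (Int.castRingHom ℂ) (_root_.FunFld.numerZ k' K') =
      ((∏ i, (1 - Polynomial.C (α i ^ Module.finrank k k') * Polynomial.X) : Polynomial ℂ) :
        PowerSeries ℂ) := by
  have : Module.Finite k k' := Module.Finite.of_finite
  have hn : 0 < Module.finrank k k' := Module.finrank_pos
  refine Newton.eq_of_rel (T := ∑ i, -Newton.pw (α i ^ Module.finrank k k')) ?_ ?_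
    (Newton.rel_prodLin _) ?_
  · rw [map_sum]
    refine Finset.sum_eq_zero fun i _ => ?_
    rw [map_neg, ← PowerSeries.coeff_zero_eq_constantCoeff_apply, Newton.pw, PowerSeries.coeff_mk,
      if_pos rfl, neg_zero]
  · have h := Newton.rel_map (Int.castRingHom ℂ) (Newton.rel_numerZ hK')
    convert h using 1
    ext m
    rcases Nat.eq_zero_or_pos m with rfl | hm
    · simp only [PowerSeries.coeff_map, map_add, map_neg, map_sum, Newton.pw, Newton.nser,
        PowerSeries.coeff_mk, if_true, map_zero, neg_zero, add_zero, Finset.sum_const_zero]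
    simp only [PowerSeries.coeff_map, map_add, map_neg, map_sum, Newton.coeff_pw _ hm,
      Newton.coeff_nser hm, Finset.sum_neg_distrib, one_pow, map_pow, map_one, eq_intCast,
      Int.cast_natCast, Npts_eq hK hK' hce hm]
    rw [Newton.npts_eq_sum hK α hα (Nat.mul_pos hn hm), Module.natCard_eq_pow_finrank (K := k) (V := k'),
      Nat.cast_pow]
    simp only [← pow_mul]
    ring
  · rw [← PowerSeries.coeff_zero_eq_constantCoeff_apply, PowerSeries.coeff_map,
      PowerSeries.coeff_zero_eq_constantCoeff_apply, Newton.constantCoeff_numerZ hK', map_one,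
      Polynomial.constantCoeff_coe, Polynomial.coeff_zero_eq_eval_zero, Polynomial.eval_prod]
    simp

end Groth.Agent.Lib.FunFld.Zeta.ConstExt
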