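import Groth.Agent.Lib.FunFld.Galois
import Groth.Agent.Lib.FunFld.Hasse.Wdiv
import Groth.Agent.S11053
import Mathlib.Analysis.Real.Sqrt

/-! Places fixed by automorphisms twisted on the constants by a Frobenius. -/

namespace Groth.Agent.Lib.FunFld.Zeta.Twist

open WithZero
open Groth.Agent.Lib.FunFld

universe u v w
variable {kb : Type u} {L : Type v} [Field kb] [Field L] [Algebra kb L]

/-- A field automorphism acting on the constants by the `Q`-th power. -/
def IsTwist (Q : ℕ) (σ : L ≃+* L) : Prop :=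
  ∀ c : kb, σ (algebraMap kb L c) = algebraMap kb L c ^ Q

/-- The place `P ∘ σ`. -/
noncomputable def pull {Q : ℕ} (σ : L ≃+* L) (hσ : IsTwist (kb := kb) Q σ)
    (P : _root_.FunFld.Place kb L) : _root_.FunFld.Place kb L :=
  ⟨P.1.comap σ.toRingHom, fun c => by
    change P.1 (σ (algebraMap kb L c)) ≤ 1
    rw [hσ, map_pow]; exact pow_le_one' (P.2.1 c) Q,
   fun y => by
    obtain ⟨x, hx⟩ := P.2.2 y
    exact ⟨σ.symm x, by change P.1 (σ (σ.symm x)) = y; rw [σ.apply_symm_apply]; exact hx⟩⟩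

theorem pull_apply {Q : ℕ} (σ : L ≃+* L) (hσ : IsTwist (kb := kb) Q σ)
    (P : _root_.FunFld.Place kb L) (z : L) : (pull σ hσ P).1 z = P.1 (σ z) := rfl

/-- The fixed places. -/
def fixedSet (σ : L ≃+* L) : Set (_root_.FunFld.Place kb L) :=
  {P | ∀ z, P.1 (σ z) = P.1 z}

theorem mem_fixedSet_iff {Q : ℕ} (σ : L ≃+* L) (hσ : IsTwist (kb := kb) Q σ)
    (P : _root_.FunFld.Place kb L) : P ∈ fixedSet σ ↔ pull σ hσ P = P :=
  ⟨fun h => Subtype.ext (Valuation.ext fun z => h z), fun h z => by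
    conv_rhs => rw [← h]
    rfl⟩

/-- The explicit constant in the upper bound. -/
noncomputable def bnd (g : ℕ) : ℝ := 2 * (g : ℝ) ^ 3 + (g + 4) * g

theorem bnd_nonneg (g : ℕ) : 0 ≤ bnd g := by unfold bnd; positivity

/-- Upper bound for the fixed places of a twisted automorphism. -/
theorem ncard_fixedSet_le [IsAlgClosed kb] (hL : FunFld.IsFunctionField kb L) {Q : ℕ} (hQ : 2 ≤ Q)
    (hadd : ∀ a b : L, (a + b) ^ Q = a ^ Q + b ^ Q) (σ : L ≃+* L) (hσ : IsTwist (kb := kb) Q σ)
    {x : L} (hx : Transcendental kb x) (hσx : σ x = x) :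
    (fixedSet (kb := kb) σ).Finite ∧
      ((fixedSet (kb := kb) σ).ncard : ℝ) ≤
        Q + 1 + bnd (_root_.FunFld.genus kb L) * Real.sqrt Q := by
  classical
  let τ : L →ₐ[kb] L :=
    { toFun := fun z => σ.symm z ^ Q
      map_one' := by simp
      map_mul' := fun a b => by simp [mul_pow]
      map_zero' := by rw [map_zero, zero_pow (by omega)]
      map_add' := fun a b => by rw [map_add, hadd]
      commutes' := fun c => by
        obtain ⟨d, hd⟩ := IsAlgClosed.exists_pow_nat_eq c (show 0 < Q by omega)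
        have : σ.symm (algebraMap kb L c) = algebraMap kb L d := by
          rw [RingEquiv.symm_apply_eq, hσ, ← map_pow, hd]
        rw [this, ← map_pow, hd] }
  have hdeg : Module.finrank τ.fieldRange L = Q := by
    have := Hasse.Wdiv.finiteDimensional_fieldRange hL τ
    have h1 := Hasse.Wdiv.deg_mapDiv_comp hL τ ![(1 : L), x]
    have hne : ∀ i, ![(1 : L), x] i ≠ 0 := by
      intro i
      fin_cases i
      · exact one_ne_zero
      · exact Groth.Agent.Lib.FunFld.Bound.ne_zero_of_transcendental hx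
    have hinf : ∀ f : Fin 2 → ℤ, Finset.univ.inf' Finset.univ_nonempty f = min (f 0) (f 1) := fun f =>
      le_antisymm (le_min (Finset.inf'_le f (Finset.mem_univ 0)) (Finset.inf'_le f (Finset.mem_univ 1)))
        (Finset.le_inf' _ _ fun i _ => by fin_cases i <;> simp)
    have hsx : σ.symm x = x := by rw [RingEquiv.symm_apply_eq, hσx]
    have h2 : FunFld.mapDiv kb (τ ∘ ![(1 : L), x]) = (Q : ℤ) • FunFld.mapDiv kb ![(1 : L), x] := by
      ext P
      rw [Finsupp.smul_apply, MapDiv.mapDiv_apply (Ext.isFF hL), MapDiv.mapDiv_apply (Ext.isFF hL),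
        hinf, hinf]
      have ht : τ x = x ^ Q := congrArg (· ^ Q) hsx
      simp only [Function.comp_apply, Matrix.cons_val_zero, Matrix.cons_val_one, map_one, ht,
        Place.ord_pow, smul_eq_mul, mul_neg, neg_inj]
      have h0 : P.ord (1 : L) = 0 := by simp [FunFld.Place.ord]
      rw [h0, mul_min_of_nonneg _ _ (Int.natCast_nonneg Q), mul_zero]
    have hdegx : (FunFld.mapDiv kb ![(1 : L), x]).deg ≠ 0 := by
      have h3 : FunFld.mapDiv kb ![(1 : L), x] = Degree.poleDiv x := by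
        ext P
        rw [MapDiv.mapDiv_apply (Ext.isFF hL), Degree.poleDiv_apply hL, hinf]
        have h0 : P.ord (1 : L) = 0 := by simp [FunFld.Place.ord]
        simp only [Matrix.cons_val_zero, Matrix.cons_val_one, h0]
        omega
      rw [h3, Degree.deg_poleDiv hL hx]
      intro h0
      obtain ⟨P, hP⟩ := Existence.exists_pole hL hx
      have h4 := Degree.deg_poleDiv hL hx
      rw [h0] at h4
      have h5 : Finsupp.single P 1 ≤ Degree.poleDiv (k := kb) x := by
        refine Finsupp.le_def.mpr fun R => ?_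
        rcases eq_or_ne R P with rfl | hR
        · rw [Finsupp.single_eq_same, Degree.poleDiv_apply hL]
          omega
        · rw [Finsupp.single_eq_of_ne hR, Degree.poleDiv_apply hL]; omega
      have h6 := Degree.deg_mono h5
      rw [Degree.deg_single, Hasse.Wdiv.deg_eq_one hL, h4] at h6
      norm_num at h6
    rw [h2, Degree.deg_smul] at h1
    exact_mod_cast (mul_right_cancel₀ hdegx h1).symm
  set g := _root_.FunFld.genus kb L
  set n := g + 1 + ⌈Real.sqrt Q⌉₊
  obtain ⟨hfin, hle⟩ := Groth.Agent.S11053.result kb L hL τ n (by omega)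
  rw [hdeg] at hle
  have hsub : fixedSet (kb := kb) σ ⊆
      {P | ∀ z : L, P.1 z < 1 → P.1 (τ z) ≤ WithZero.exp (-2)} := by
    intro P hP z hz
    change P.1 (σ.symm z ^ Q) ≤ _
    have h1 : P.1 (σ.symm z) < 1 := by rw [← hP, σ.apply_symm_apply]; exact hz
    rw [map_pow]
    generalize P.1 (σ.symm z) = a at h1
    rcases eq_or_ne a 0 with rfl | ha
    · rw [zero_pow (by omega)]; exact zero_le
    · rw [← exp_log ha, ← exp_zero, exp_lt_exp] at h1
      rw [← exp_log ha, ← exp_nsmul, exp_le_exp, nsmul_eq_mul]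
      have : (2 : ℤ) ≤ Q := by exact_mod_cast hQ
      nlinarith
  refine ⟨hfin.subset hsub, (Nat.cast_le.mpr (Set.ncard_le_ncard hsub hfin)).trans (hle.trans ?_)⟩
  set s := Real.sqrt Q
  have hs : s ^ 2 = Q := Real.sq_sqrt (Nat.cast_nonneg Q)
  have hs1 : (1 : ℝ) ≤ s := Real.one_le_sqrt.mpr (by exact_mod_cast (show 1 ≤ Q by omega))
  have hn1 : s ≤ n := by
    have := Nat.le_ceil s
    simp only [n]; push_cast; linarith [(Nat.cast_nonneg g : (0 : ℝ) ≤ g)]
  have hn2 : (n : ℝ) ≤ (g + 3) * s := by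
    have := Nat.ceil_lt_add_one (show (0 : ℝ) ≤ s by linarith)
    simp only [n]; push_cast
    nlinarith [(Nat.cast_nonneg g : (0 : ℝ) ≤ g)]
  have hn0 : (0 : ℝ) < n := by linarith
  have hQn : (Q : ℝ) / n ≤ s := by rw [div_le_iff₀ hn0, ← hs]; nlinarith
  have hlast : 2 * (g : ℝ) ^ 2 * ((g : ℝ) - 1) / n ≤ 2 * (g : ℝ) ^ 3 := by
    rw [div_le_iff₀ hn0]
    have : (1 : ℝ) ≤ n := by linarith
    have h3 : (0 : ℝ) ≤ (g : ℝ) ^ 3 := by positivity
    have h2 : (0 : ℝ) ≤ (g : ℝ) ^ 2 := by positivity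
    nlinarith
  have hgs : (0 : ℝ) ≤ g := Nat.cast_nonneg g
  have : 2 * (g : ℝ) ^ 3 ≤ 2 * (g : ℝ) ^ 3 * s := le_mul_of_one_le_right (by positivity) hs1
  have h4 : ((n : ℝ) + Q / n) * g ≤ ((g + 4) * s) * g :=
    mul_le_mul_of_nonneg_right (by linarith) hgs
  have hbnd : bnd g * s = 2 * (g : ℝ) ^ 3 * s + ((g + 4) * s) * g := by unfold bnd; ring
  linarith

section Cover

variable {L₀ : Type w} [Field L₀] [Algebra kb L₀] [Algebra L₀ L] [IsScalarTower kb L₀ L]
  [FiniteDimensional L₀ L] [IsGalois L₀ L]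

/-- The twist composed with an element of the Galois group. -/
def comp (σ : L ≃+* L) (g : L ≃ₐ[L₀] L) : L ≃+* L := g.toRingEquiv.trans σ

omit [FiniteDimensional L₀ L] [IsGalois L₀ L] in
theorem comp_apply (σ : L ≃+* L) (g : L ≃ₐ[L₀] L) (z : L) : comp σ g z = σ (g z) := rfl

omit [FiniteDimensional L₀ L] [IsGalois L₀ L] in
theorem isTwist_comp {Q : ℕ} (σ : L ≃+* L) (hσ : IsTwist (kb := kb) Q σ) (g : L ≃ₐ[L₀] L) :
    IsTwist (kb := kb) Q (comp σ g) := fun c => by
  rw [comp_apply, IsScalarTower.algebraMap_apply kb L₀ L, g.commutes,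
    ← IsScalarTower.algebraMap_apply kb L₀ L]
  exact hσ c

/-- Over a fixed place of the base the twists fix `|G|` places in all. -/
theorem sum_ncard_fixedSet (hL₀ : FunFld.IsFunctionField kb L₀) {Q : ℕ} (σ : L ≃+* L)
    (hσ : IsTwist (kb := kb) Q σ) (σ₀ : L₀ ≃+* L₀) (hσ₀ : IsTwist (kb := kb) Q σ₀)
    (hres : ∀ a, σ (algebraMap L₀ L a) = algebraMap L₀ L (σ₀ a))
    (hfin₀ : (fixedSet (kb := kb) σ₀).Finite)
    (hfin : ∀ g : L ≃ₐ[L₀] L, (fixedSet (kb := kb) (comp σ g)).Finite) :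
    ∑ g : L ≃ₐ[L₀] L, (fixedSet (kb := kb) (comp σ g)).ncard =
      Fintype.card (L ≃ₐ[L₀] L) * (fixedSet (kb := kb) σ₀).ncard := by
  classical
  -- places over a fixed place, and their images
  have hpull : ∀ (P : _root_.FunFld.Place kb L) (p : _root_.FunFld.Place kb L₀),
      FunFld.IsOver P p → FunFld.IsOver (pull σ hσ P) (pull σ₀ hσ₀ p) := by
    rintro P p ⟨e, he⟩
    exact ⟨e, fun a => by rw [pull_apply, hres, he, pull_apply]⟩
  have hcomp : ∀ (P : _root_.FunFld.Place kb L) (g : L ≃ₐ[L₀] L),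
      P ∈ fixedSet (comp σ g) ↔ Galois.comapAut (pull σ hσ P) g = P := fun P g =>
    ⟨fun h => Subtype.ext (Valuation.ext fun z => h z), fun h z => by
      conv_rhs => rw [← h]
      rfl⟩
  have hover : ∀ (P : _root_.FunFld.Place kb L) (g : L ≃ₐ[L₀] L), P ∈ fixedSet (comp σ g) →
      ∃ p ∈ fixedSet (kb := kb) σ₀, FunFld.IsOver P p := by
    intro P g hPg
    obtain ⟨p, e, -, hpe⟩ := Ext.exists_place_below hL₀ P
    have h2 : FunFld.IsOver P (pull σ₀ hσ₀ p) := by
      obtain ⟨e', he'⟩ := hpull P p ⟨e, hpe⟩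
      have := Galois.isOverWith_comapAut he' g
      rw [(hcomp P g).mp hPg] at this
      exact ⟨e', this⟩
    exact ⟨p, (mem_fixedSet_iff σ₀ hσ₀ p).mpr (Ext.isOver_unique h2 ⟨e, hpe⟩), e, hpe⟩
  -- the fibres
  have hfib : ∀ p : _root_.FunFld.Place kb L₀, {P : _root_.FunFld.Place kb L | FunFld.IsOver P p}.Finite :=
    fun p => Ext.finite_over hL₀ p
  have hcount : ∀ p ∈ fixedSet (kb := kb) σ₀,
      ∑ g : L ≃ₐ[L₀] L, ((hfib p).toFinset.filter fun P => P ∈ fixedSet (comp σ g)).card =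
        Fintype.card (L ≃ₐ[L₀] L) := by
    intro p hp
    set S := (hfib p).toFinset
    obtain ⟨P₀, hP₀⟩ := Ext.exists_over (K' := L) hL₀ p
    have hmem : ∀ P, P ∈ S ↔ FunFld.IsOver P p := fun P => (hfib p).mem_toFinset
    let fib : _root_.FunFld.Place kb L → _root_.FunFld.Place kb L → Finset (L ≃ₐ[L₀] L) := fun R P =>
      Finset.univ.filter fun g => Galois.comapAut R g = P
    have hsame : ∀ R ∈ S, ∀ P ∈ S, (fib R P).card = (fib P₀ P₀).card := by
      intro R hR P hP
      obtain ⟨a, ha⟩ := Galois.exists_comapAut_eq hP₀ ((hmem R).mp hR)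
      obtain ⟨b, hb⟩ := Galois.exists_comapAut_eq hP₀ ((hmem P).mp hP)
      have hcc : ∀ (R : _root_.FunFld.Place kb L) (s t : L ≃ₐ[L₀] L),
          Galois.comapAut (Galois.comapAut R s) t = Galois.comapAut R (s * t) := fun R s t =>
        Subtype.ext (Valuation.ext fun z => rfl)
      refine Finset.card_bij' (fun g _ => a * g * b⁻¹) (fun h _ => a⁻¹ * h * b) ?_ ?_ ?_ ?_
      · intro g hg
        simp only [fib, Finset.mem_filter, Finset.mem_univ, true_and] at hg ⊢
        rw [← hcc, ← hcc, ha, hg, ← hb, hcc, mul_inv_cancel]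
        exact Subtype.ext (Valuation.ext fun z => rfl)
      · intro h hh
        simp only [fib, Finset.mem_filter, Finset.mem_univ, true_and] at hh ⊢
        rw [← hcc, ← hcc, ← ha, hcc P₀ a, mul_inv_cancel]
        rw [show Galois.comapAut P₀ (1 : L ≃ₐ[L₀] L) = P₀ from Subtype.ext (Valuation.ext fun z => rfl),
          hh, hb]
      · intro g _; group
      · intro h _; group
    have hsum : (Finset.univ : Finset (L ≃ₐ[L₀] L)).card = ∑ P ∈ S, (fib P₀ P).card :=
      Finset.card_eq_sum_card_fiberwise (fun g _ => (hmem _).mpr (by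
        obtain ⟨e, he⟩ := hP₀
        exact ⟨e, Galois.isOverWith_comapAut he g⟩))
    simp only [Finset.card_filter]
    rw [Finset.sum_comm, ← Finset.card_univ, hsum]
    refine Finset.sum_congr rfl fun P hP => ?_
    rw [← Finset.card_filter, hsame P₀ ((hmem P₀).mpr hP₀) P hP,
      ← hsame (pull σ hσ P) ((hmem _).mpr ?_) P hP]
    · exact congrArg Finset.card (Finset.filter_congr fun g _ => hcomp P g)
    · have := hpull P p ((hmem P).mp hP)
      rwa [(mem_fixedSet_iff σ₀ hσ₀ p).mp hp] at this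
  have hsplit : ∀ g : L ≃ₐ[L₀] L, (fixedSet (kb := kb) (comp σ g)).ncard =
      ∑ p ∈ hfin₀.toFinset, ((hfib p).toFinset.filter fun P => P ∈ fixedSet (comp σ g)).card := by
    intro g
    rw [Set.ncard_eq_toFinset_card _ (hfin g), ← Finset.card_biUnion]
    · congr 1
      ext P
      simp only [Set.Finite.mem_toFinset, Finset.mem_biUnion, Finset.mem_filter, Set.mem_ofPred_eq]
      constructor
      · intro h
        obtain ⟨p, hp, hPp⟩ := hover P g h
        exact ⟨p, hp, hPp, h⟩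
      · rintro ⟨p, -, -, h⟩; exact h
    · intro p _ p' _ hne
      refine Finset.disjoint_left.mpr fun P h h' => hne ?_
      simp only [Finset.mem_filter, Set.Finite.mem_toFinset, Set.mem_ofPred_eq] at h h'
      exact Ext.isOver_unique h.1 h'.1
  simp only [hsplit]
  rw [Finset.sum_comm, Finset.sum_congr rfl fun p hp => hcount p (hfin₀.mem_toFinset.mp hp),
    Finset.sum_const, smul_eq_mul, Set.ncard_eq_toFinset_card _ hfin₀, mul_comm]

end Cover

end Groth.Agent.Lib.FunFld.Zeta.Twist
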