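import Groth.Agent.Lib.FunFld.Zeta.Bar
import Groth.Agent.Lib.FunFld.Zeta.Twist
import Mathlib.FieldTheory.Minpoly.Basic
import Mathlib.LinearAlgebra.Matrix.NonsingularInverse

/-! Frobenius on `kb ⊗ K` and the places over a place of `K`. -/

namespace Groth.Agent.Lib.FunFld.Zeta.Places

open WithZero IsLocalRing Module
open Groth.Agent.Lib.FunFld Groth.Agent.Lib.FunFld.Zeta
open scoped TensorProduct

universe u v w z
variable {k : Type u} {K : Type v} {kb : Type w} {Kb : Type z} [Field k] [Field K] [Field kb] [Field Kb]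
  [Algebra k K] [Algebra k kb] [Algebra K Kb] [Algebra kb Kb] [Algebra k Kb]
  [IsScalarTower k K Kb] [IsScalarTower k kb Kb]

/-- The automorphism fixing `K` and raising constants to the `q`-th power. -/
theorem exists_frob [Finite k] [Algebra.IsAlgebraic k kb] (hK : FunFld.IsFunctionField k K)
    (hgen : Algebra.adjoin K (Set.range (algebraMap kb Kb)) = ⊤) :
    ∃ σ : Kb ≃ₐ[K] Kb, ∀ c : kb, σ (algebraMap kb Kb c) = algebraMap kb Kb c ^ Nat.card k := by
  classical
  have := Fintype.ofFinite k
  let f : kb ⊗[k] K →ₐ[k] Kb :=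
    Algebra.TensorProduct.productMap (IsScalarTower.toAlgHom k kb Kb) (IsScalarTower.toAlgHom k K Kb)
  have hsurj : Function.Surjective f := by
    intro z
    let T : Subalgebra K Kb :=
      { carrier := Set.range f
        mul_mem' := by rintro _ _ ⟨a, rfl⟩ ⟨b, rfl⟩; exact ⟨a * b, map_mul f a b⟩
        add_mem' := by rintro _ _ ⟨a, rfl⟩ ⟨b, rfl⟩; exact ⟨a + b, map_add f a b⟩
        algebraMap_mem' := fun a => ⟨1 ⊗ₜ a, by simp [f]⟩ }
    have hT : Algebra.adjoin K (Set.range (algebraMap kb Kb)) ≤ T := by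
      refine Algebra.adjoin_le ?_
      rintro _ ⟨c, rfl⟩
      exact ⟨c ⊗ₜ 1, by simp [f]⟩
    exact hT (hgen ▸ Algebra.mem_top : z ∈ _)
  have hinj : Function.Injective f := by
    rw [injective_iff_map_eq_zero]
    intro x hx
    obtain ⟨b⟩ := (⟨Module.Free.chooseBasis k kb⟩ : Nonempty _)
    obtain ⟨c, rfl⟩ := TensorProduct.eq_repr_basis_left b x
    rw [Finsupp.sum, map_sum] at hx
    have hli := Bar.linearIndependent_bar (K := K) (Kb := Kb) hK
      (b.linearIndependent.comp (fun i : c.support => (i : _)) Subtype.val_injective)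
    have h0 := Fintype.linearIndependent_iff.mp hli (fun i => c i) (by
      rw [← hx, ← Finset.sum_coe_sort c.support (fun i => f (b i ⊗ₜ[k] c i))]
      refine Finset.sum_congr rfl fun i _ => ?_
      simp [f, Algebra.smul_def, mul_comm])
    refine Finset.sum_eq_zero fun i hi => ?_
    simp only [h0 ⟨i, hi⟩, TensorProduct.tmul_zero]
  let e := AlgEquiv.ofBijective f ⟨hinj, hsurj⟩
  let g : Kb ≃ₐ[k] Kb :=
    e.symm.trans ((Algebra.TensorProduct.congr (FiniteField.frobeniusAlgEquivOfAlgebraic k kb)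
      (AlgEquiv.refl : K ≃ₐ[k] K)).trans e)
  have hg : ∀ (c : kb) (a : K), g (algebraMap kb Kb c * algebraMap K Kb a) =
      algebraMap kb Kb (c ^ Nat.card k) * algebraMap K Kb a := fun c a => by
    have h1 : algebraMap kb Kb c * algebraMap K Kb a = e (c ⊗ₜ a) :=
      (Algebra.TensorProduct.productMap_apply_tmul (IsScalarTower.toAlgHom k kb Kb)
        (IsScalarTower.toAlgHom k K Kb) c a).symm
    simp only [g, AlgEquiv.trans_apply]
    rw [h1, e.symm_apply_apply]
    rw [Nat.card_eq_fintype_card]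
    exact Algebra.TensorProduct.productMap_apply_tmul (IsScalarTower.toAlgHom k kb Kb)
      (IsScalarTower.toAlgHom k K Kb) (c ^ Fintype.card k) a
  refine ⟨{ g.toRingEquiv with commutes' := fun a => ?_ }, fun c => ?_⟩
  · have := hg 1 a
    simpa using this
  · have := hg c 1
    rw [map_one, mul_one, mul_one, map_pow] at this
    exact this

variable (σ : Kb ≃ₐ[K] Kb)

omit [Algebra k K] [Algebra k kb] [Algebra k Kb] [IsScalarTower k K Kb] [IsScalarTower k kb Kb] in
theorem pow_apply_const (hσ : ∀ c : kb, σ (algebraMap kb Kb c) = algebraMap kb Kb c ^ Nat.card k) :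
    ∀ (m : ℕ) (c : kb), (σ ^ m) (algebraMap kb Kb c) = algebraMap kb Kb c ^ (Nat.card k ^ m)
  | 0, c => by simp
  | m + 1, c => by
    rw [pow_succ', AlgEquiv.mul_apply, pow_apply_const hσ m c, map_pow, hσ, ← pow_mul, pow_succ']

theorem isTwist_pow (hσ : ∀ c : kb, σ (algebraMap kb Kb c) = algebraMap kb Kb c ^ Nat.card k) (m : ℕ) :
    Twist.IsTwist (kb := kb) (Nat.card k ^ m) (σ ^ m).toRingEquiv :=
  pow_apply_const σ hσ m

/-- `Q` lies below to `P`. -/
def Below (Q : _root_.FunFld.Place kb Kb) (P : _root_.FunFld.Place k K) : Prop :=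
  ∀ a : K, Q.1 (algebraMap K Kb a) ≤ 1 ↔ P.1 a ≤ 1

omit [Algebra k kb] [Algebra k Kb] [IsScalarTower k K Kb] [IsScalarTower k kb Kb] in
theorem below_unique {Q : _root_.FunFld.Place kb Kb} {P P' : _root_.FunFld.Place k K}
    (h : Below Q P) (h' : Below Q P') : P = P' :=
  Place.place_ext_of_le_iff fun a => (h a).symm.trans (h' a)

omit [Algebra k kb] [Algebra k Kb] [IsScalarTower k K Kb] [IsScalarTower k kb Kb] in
theorem below_lt {Q : _root_.FunFld.Place kb Kb} {P : _root_.FunFld.Place k K}
    (h : Below Q P) (a : K) : Q.1 (algebraMap K Kb a) < 1 ↔ P.1 a < 1 := by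
  rcases eq_or_ne a 0 with rfl | ha
  · simp
  have h1 := h a⁻¹
  rw [map_inv₀, map_inv₀, map_inv₀, inv_le_one₀ (zero_lt_iff.mpr (by simpa using ha)),
    inv_le_one₀ (zero_lt_iff.mpr (by simpa using ha))] at h1
  rw [← not_le, ← not_le, h1]

section
variable [IsAlgClosure k kb] (hK : FunFld.IsFunctionField k K)
  (hgen : Algebra.adjoin K (Set.range (algebraMap kb Kb)) = ⊤)
include hK hgen

theorem exists_below (Q : _root_.FunFld.Place kb Kb) : ∃ P : _root_.FunFld.Place k K, Below Q P := by
  have := IsAlgClosure.isAlgebraic (R := k) (K := kb)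
  have := Bar.isIntegral_bar (K := K) (Kb := Kb) (k := k) hgen
  let V : ValuationSubring K := Q.O.comap (algebraMap K Kb)
  have hk : ∀ c : k, algebraMap k K c ∈ V := fun c => by
    change Q.1 (algebraMap K Kb (algebraMap k K c)) ≤ 1
    rw [← IsScalarTower.algebraMap_apply, IsScalarTower.algebraMap_apply k kb Kb]
    exact Q.2.1 _
  have hV : V ≠ ⊤ := by
    intro h
    obtain ⟨y, hy⟩ := Place.exists_val_eq_exp Q 1
    let ak : K →+* Q.O := (algebraMap K Kb).codRestrict Q.O fun a => by
      have : a ∈ V := h ▸ ValuationSubring.mem_top a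
      exact this
    let _ : Algebra K Q.O := ak.toAlgebra
    have : IsScalarTower K Q.O Kb := IsScalarTower.of_algebraMap_eq fun _ => rfl
    have hint : IsIntegral Q.O y := (Algebra.IsIntegral.isIntegral (R := K) y).tower_top
    obtain ⟨z, hz⟩ := IsIntegrallyClosed.algebraMap_eq_of_integral hint
    have : Q.1 y ≤ 1 := by rw [← hz]; exact z.2
    rw [hy, ← exp_zero, exp_le_exp] at this
    norm_num at this
  obtain ⟨P, hP⟩ := Existence.exists_place_of_valuationSubring hK V hk hV
  exact ⟨P, fun a => (SetLike.ext_iff.mp hP a).symm⟩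

theorem exists_above (P : _root_.FunFld.Place k K) : ∃ Q : _root_.FunFld.Place kb Kb, Below Q P := by
  have := IsAlgClosure.isAlgebraic (R := k) (K := kb)
  obtain ⟨f, hf, hlt, honly⟩ := Ext.exists_only_zero hK P
  obtain ⟨Q, hQ⟩ := Existence.exists_zero (Bar.isFunctionField_bar hK hgen)
    (Bar.transcendental_bar (Kb := Kb) (kb := kb) hf)
  obtain ⟨P', hP'⟩ := exists_below (kb := kb) hK hgen Q
  refine ⟨Q, ?_⟩
  have h1 : P'.1 f < 1 := (below_lt hP' f).mp ((Place.ord_pos_iff Q).mp hQ).2
  by_contra hne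
  exact absurd ((Place.ord_pos_iff P').mpr ⟨fun h0 => hf (by rw [h0]; exact isAlgebraic_zero), h1⟩)
    (not_lt.mpr (honly P' fun h => hne (h ▸ hP')))

end

/-- The residue at `Q` of an element of `O_P`. -/
noncomputable def incl {Q : _root_.FunFld.Place kb Kb} {P : _root_.FunFld.Place k K} (h : Below Q P) :
    P.O →+* Q.O :=
  ((algebraMap K Kb).comp P.O.subtype).codRestrict Q.O fun a => (h a).mpr a.2

theorem isLocalHom_incl {Q : _root_.FunFld.Place kb Kb} {P : _root_.FunFld.Place k K} (h : Below Q P) :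
    IsLocalHom (incl h) := by
  refine ⟨fun a ha => ?_⟩
  by_contra hna
  have h1 : P.1 (a : K) < 1 := (Place.mem_maximalIdeal_iff P a).mp ((mem_maximalIdeal a).mpr hna)
  have h2 : incl h a ∈ maximalIdeal Q.O := (Place.mem_maximalIdeal_iff Q _).mpr ((below_lt h _).mpr h1)
  exact (mem_maximalIdeal _).mp h2 ha

section
variable [IsAlgClosed kb] (hKb : FunFld.IsFunctionField kb Kb)

/-- The inverse of `kb ≅` residue field. -/
noncomputable def resEquiv (Q : _root_.FunFld.Place kb Kb) : kb ≃+* ResidueField Q.O :=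
  RingEquiv.ofBijective (algebraMap kb (ResidueField Q.O)) (Hasse.Param.res_bijective hKb Q)

/-- The embedding of the residue field attached to a place above. -/
noncomputable def emb {Q : _root_.FunFld.Place kb Kb} {P : _root_.FunFld.Place k K} (h : Below Q P) :
    ResidueField P.O →ₐ[k] kb :=
  haveI := isLocalHom_incl h
  { toRingHom := (resEquiv hKb Q).symm.toRingHom.comp (ResidueField.map (incl h))
    commutes' := fun c => by
      change (resEquiv hKb Q).symm (ResidueField.map (incl h) (residue P.O (algebraMap k P.O c))) = _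
      rw [ResidueField.map_residue, RingEquiv.symm_apply_eq]
      change _ = residue Q.O (algebraMap kb Q.O (algebraMap k kb c))
      congr 1
      refine Subtype.ext ?_
      change algebraMap K Kb (algebraMap k K c) = algebraMap kb Kb (algebraMap k kb c)
      rw [← IsScalarTower.algebraMap_apply, ← IsScalarTower.algebraMap_apply] }

theorem emb_spec {Q : _root_.FunFld.Place kb Kb} {P : _root_.FunFld.Place k K} (h : Below Q P) (a : P.O) :
    Q.1 (algebraMap K Kb (a : K) - algebraMap kb Kb (emb hKb h (residue P.O a))) < 1 := by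
  have := isLocalHom_incl h
  have h1 : residue Q.O (algebraMap kb Q.O (emb hKb h (residue P.O a))) = residue Q.O (incl h a) := by
    change algebraMap kb (ResidueField Q.O) ((resEquiv hKb Q).symm (ResidueField.map (incl h) (residue P.O a))) = _
    rw [ResidueField.map_residue]
    exact (resEquiv hKb Q).apply_symm_apply _
  have h2 : incl h a - algebraMap kb Q.O (emb hKb h (residue P.O a)) ∈ maximalIdeal Q.O :=
    Ideal.Quotient.eq.mp h1.symm
  exact (Place.mem_maximalIdeal_iff Q _).mp h2

theorem emb_eq {Q : _root_.FunFld.Place kb Kb} {P : _root_.FunFld.Place k K} (h : Below Q P) (a : P.O)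
    {c : kb} (hc : Q.1 (algebraMap K Kb (a : K) - algebraMap kb Kb c) < 1) :
    emb hKb h (residue P.O a) = c := by
  by_contra hne
  have h1 := Valuation.map_sub_lt Q.1 hc (emb_spec hKb h a)
  rw [sub_sub_sub_cancel_left, ← map_sub] at h1
  have h3 : Q.1 (algebraMap kb Kb (emb hKb h (residue P.O a) - c)) = 1 :=
    Place.val_algebraMap Q (sub_ne_zero.mpr hne)
  exact (lt_irrefl _) (h3 ▸ h1)

variable {P : _root_.FunFld.Place k K}

/-- `kb ⊗ O_P` inside `Kb`. -/
def B (kb : Type w) {Kb : Type z} [Field kb] [Field Kb] [Algebra K Kb] [Algebra kb Kb]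
    (P : _root_.FunFld.Place k K) : Submodule kb Kb :=
  Submodule.span kb (algebraMap K Kb '' (P.O : Set K))

omit [Algebra k kb] [Algebra k Kb] [IsScalarTower k K Kb] [IsScalarTower k kb Kb] [IsAlgClosed kb] in
theorem mul_mem_B {x y : Kb} (hx : x ∈ B kb P) (hy : y ∈ B kb P) : x * y ∈ B kb P := by
  refine Submodule.span_induction₂ (p := fun a c _ _ => a * c ∈ B kb P) ?_ ?_ ?_ ?_ ?_ ?_ ?_ hx hy
  · rintro _ _ ⟨a, ha, rfl⟩ ⟨b, hb, rfl⟩
    exact Submodule.subset_span ⟨a * b, P.O.mul_mem _ _ ha hb, map_mul _ _ _⟩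
  · intros; simp
  · intros; simp
  · intro x y z _ _ _ h1 h2; rw [add_mul]; exact add_mem h1 h2
  · intro x y z _ _ _ h1 h2; rw [mul_add]; exact add_mem h1 h2
  · intro r x y _ _ h1; rw [smul_mul_assoc]; exact Submodule.smul_mem _ r h1
  · intro r x y _ _ h1; rw [mul_smul_comm]; exact Submodule.smul_mem _ r h1

omit [Algebra k kb] [Algebra k Kb] [IsScalarTower k K Kb] [IsScalarTower k kb Kb] [IsAlgClosed kb] in
theorem le_one_of_mem_B {Q : _root_.FunFld.Place kb Kb} (h : Below Q P) {x : Kb} (hx : x ∈ B kb P) :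
    Q.1 x ≤ 1 := by
  refine Submodule.span_induction ?_ (by simp) (fun a b _ _ ha hb => Valuation.map_add_le _ ha hb)
    (fun c a _ ha => ?_) hx
  · rintro _ ⟨a, ha, rfl⟩; exact (h a).mpr ha
  · rw [Algebra.smul_def, map_mul]; exact mul_le_one' (Q.2.1 c) ha

end

section Main
variable [Finite k] [IsAlgClosure k kb] [IsAlgClosed kb]
  (hK : FunFld.IsFunctionField k K) (hgen : Algebra.adjoin K (Set.range (algebraMap kb Kb)) = ⊤)
  (hKb : FunFld.IsFunctionField kb Kb)
  (hσ : ∀ c : kb, σ (algebraMap kb Kb c) = algebraMap kb Kb c ^ Nat.card k)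
include hσ

omit [Finite k] [IsAlgClosure k kb] [IsAlgClosed kb] in
theorem below_pull {Q : _root_.FunFld.Place kb Kb} {P : _root_.FunFld.Place k K} (h : Below Q P) (m : ℕ) :
    Below (Twist.pull (σ ^ m).toRingEquiv (isTwist_pow σ hσ m) Q) P := fun a => by
  rw [Twist.pull_apply]
  change Q.1 ((σ ^ m) (algebraMap K Kb a)) ≤ 1 ↔ _
  rw [AlgEquiv.commutes]
  exact h a

omit [Finite k] [IsAlgClosure k kb] in
theorem emb_pull {Q : _root_.FunFld.Place kb Kb} {P : _root_.FunFld.Place k K} (h : Below Q P) (m : ℕ)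
    (x : ResidueField P.O) :
    emb hKb h x = emb hKb (below_pull σ hσ h m) x ^ (Nat.card k ^ m) := by
  obtain ⟨a, rfl⟩ := IsLocalRing.residue_surjective x
  refine emb_eq hKb h a ?_
  have h1 := emb_spec hKb (below_pull σ hσ h m) a
  rw [Twist.pull_apply] at h1
  change Q.1 ((σ ^ m) _) < 1 at h1
  rwa [map_sub, AlgEquiv.commutes, pow_apply_const σ hσ, ← map_pow] at h1

omit [IsAlgClosure k kb] [IsAlgClosed kb] hσ in
include hK in
/-- `x^(q^n) = x` on the residue field iff its degree divides `n`. -/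
theorem pow_eq_iff (P : _root_.FunFld.Place k K) (n : ℕ) :
    (∀ x : ResidueField P.O, x ^ (Nat.card k ^ n) = x) ↔ P.deg ∣ n := by
  classical
  have := Fintype.ofFinite k
  have := Existence.finiteDimensional_residueField hK P
  have : Finite (ResidueField P.O) := Module.finite_of_finite k
  have ho : orderOf (FiniteField.frobeniusAlgEquivOfAlgebraic k (ResidueField P.O)) = P.deg :=
    FiniteField.orderOf_frobeniusAlgEquivOfAlgebraic k (ResidueField P.O)
  rw [← ho, orderOf_dvd_iff_pow_eq_one, Nat.card_eq_fintype_card]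
  constructor
  · intro h
    refine AlgEquiv.ext fun x => ?_
    rw [AlgEquiv.coe_pow, FiniteField.coe_frobeniusAlgEquivOfAlgebraic_iterate]
    exact h x
  · intro h x
    have := AlgEquiv.congr_fun h x
    rwa [AlgEquiv.coe_pow, FiniteField.coe_frobeniusAlgEquivOfAlgebraic_iterate] at this

include hK hgen

/-- Every embedding of the residue field comes from a place above. -/
theorem exists_emb_eq (P : _root_.FunFld.Place k K) (ι : ResidueField P.O →ₐ[k] kb) :
    ∃ (Q : _root_.FunFld.Place kb Kb) (h : Below Q P), emb hKb h = ι := by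
  classical
  have := Fintype.ofFinite k
  have := Existence.finiteDimensional_residueField hK P
  have : Finite (ResidueField P.O) := Module.finite_of_finite k
  obtain ⟨Q₀, h₀⟩ := exists_above (kb := kb) hK hgen P
  let F : Fin P.deg → (ResidueField P.O →ₐ[k] kb) := fun j => emb hKb (below_pull σ hσ h₀ j)
  have hinj : ∀ i j : Fin P.deg, (i : ℕ) ≤ j → F i = F j → i = j := by
    intro i j hle hij
    have hd : P.deg ∣ (j : ℕ) - i := by
      refine (pow_eq_iff hK P _).mp fun x => (F i).injective ?_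
      have h1 := emb_pull σ hKb hσ h₀ i x
      have h2 := emb_pull σ hKb hσ h₀ j x
      change _ = F i x ^ _ at h1
      change _ = F j x ^ _ at h2
      rw [← hij] at h2
      obtain ⟨p, hp⟩ := ExpChar.exists kb
      obtain ⟨e, -, he⟩ : ∃ e, 0 < e ∧ Nat.card k = p ^ e := by
        obtain ⟨p', hp'⟩ := CharP.exists k
        obtain ⟨e, hp1, he⟩ := FiniteField.card k p'
        have : Fact p'.Prime := ⟨hp1⟩
        have : ExpChar kb p' := expChar_of_injective_algebraMap (algebraMap k kb).injective p'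
        exact ⟨e, e.pos, by rw [ExpChar.eq hp this, Nat.card_eq_fintype_card, he]⟩
      have h3 : (F i x ^ (Nat.card k ^ ((j : ℕ) - i))) ^ (Nat.card k ^ (i : ℕ)) =
          F i x ^ (Nat.card k ^ (i : ℕ)) := by
        rw [← pow_mul, ← pow_add, Nat.sub_add_cancel hle, ← h2, h1]
      rw [map_pow]
      rw [he, ← pow_mul, ← pow_mul] at h3
      have := iterateFrobenius_inj kb p (e * i)
      rw [he, ← pow_mul]
      exact this (by simpa only [iterateFrobenius_def, ← pow_mul, AlgHom.toRingHom_eq_coe, RingHom.coe_coe] using h3)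
    have := Nat.eq_zero_of_dvd_of_lt hd (by omega)
    exact Fin.ext (by omega)
  have hinj' : Function.Injective F := fun i j h => by
    rcases le_total (i : ℕ) j with hle | hle
    exacts [hinj i j hle h, (hinj j i hle h.symm).symm]
  have hcard : Fintype.card (ResidueField P.O →ₐ[k] kb) = P.deg := AlgHom.card k (ResidueField P.O) kb
  obtain ⟨j, hj⟩ := ((Fintype.bijective_iff_injective_and_card F).mpr
    ⟨hinj', by rw [Fintype.card_fin, hcard]⟩).2 ι
  exact ⟨_, _, hj⟩

/-- A place above is determined by its embedding. -/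
theorem eq_of_emb_eq {Q Q' : _root_.FunFld.Place kb Kb} {P : _root_.FunFld.Place k K} (h : Below Q P)
    (h' : Below Q' P) (he : emb hKb h = emb hKb h') : Q = Q' := by
  classical
  have := Fintype.ofFinite k
  have := IsAlgClosure.isAlgebraic (R := k) (K := kb)
  have := Existence.finiteDimensional_residueField hK P
  have : Finite (ResidueField P.O) := Module.finite_of_finite k
  obtain ⟨t, -, ht⟩ := Place.exists_uniformizer P
  have htP : P.1 t < 1 := by rw [ht, ← exp_zero, exp_lt_exp]; norm_num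
  have ht0 : t ≠ 0 := fun h0 => by rw [h0, map_zero] at ht; exact exp_ne_zero ht.symm
  set T := algebraMap K Kb t
  have hTB : T ∈ B kb P := Submodule.subset_span ⟨t, htP.le, rfl⟩
  let bF := Module.finBasis k (ResidueField P.O)
  choose b hb using fun j => IsLocalRing.residue_surjective (bF j)
  let lin : (Fin (Module.finrank k (ResidueField P.O)) → kb) → Kb := fun C =>
    ∑ j, C j • algebraMap K Kb (b j : K)
  -- decomposition of `B`
  have hdec : ∀ z ∈ B kb P, ∃ C, ∃ z' ∈ B kb P, z = lin C + T * z' := by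
    intro z hz
    refine Submodule.span_induction ?_ ⟨0, 0, zero_mem _, by simp [lin]⟩ ?_ ?_ hz
    · rintro _ ⟨a, ha, rfl⟩
      set lam := bF.repr (residue P.O ⟨a, ha⟩)
      set r : P.O := ⟨a, ha⟩ - ∑ j, algebraMap k P.O (lam j) * b j
      have hr : residue P.O r = 0 := by
        rw [map_sub, map_sum, sub_eq_zero]
        conv_lhs => rw [← bF.sum_repr (residue P.O ⟨a, ha⟩)]
        refine Finset.sum_congr rfl fun j _ => ?_
        rw [map_mul, hb]
        exact (Algebra.smul_def _ _).trans rfl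
      have hr1 : P.1 (r : K) < 1 := (Place.res_eq_zero_iff P r).mp hr
      have hr2 : P.1 ((r : K) / t) ≤ 1 := by
        rw [map_div₀, ht]
        rcases eq_or_ne (P.1 (r : K)) 0 with h0 | h0
        · simp [h0]
        · generalize P.1 (r : K) = v at h0 hr1 ⊢
          rw [← exp_log h0, ← exp_sub, ← exp_zero, exp_le_exp]
          rw [← exp_log h0, ← exp_zero, exp_lt_exp] at hr1
          omega
      refine ⟨fun j => algebraMap k kb (lam j), algebraMap K Kb ((r : K) / t),
        Submodule.subset_span ⟨_, hr2, rfl⟩, ?_⟩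
      have hrv : a = ((∑ j, algebraMap k P.O (lam j) * b j : P.O) : K) + (r : K) := by
        exact congrArg Subtype.val (add_sub_cancel (∑ j, algebraMap k P.O (lam j) * b j) (⟨a, ha⟩ : P.O)).symm
      have hmul : T * algebraMap K Kb ((r : K) / t) = algebraMap K Kb (r : K) := by
        rw [← map_mul, mul_div_cancel₀ _ ht0]
      rw [hmul]
      conv_lhs => rw [hrv, map_add]
      congr 1
      simp only [lin, AddSubmonoidClass.coe_finsetSum, map_sum]
      refine Finset.sum_congr rfl fun j _ => ?_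
      rw [algebraMap_smul, Algebra.smul_def, IsScalarTower.algebraMap_apply k K Kb, ← map_mul]
      rfl
    · rintro x y - - ⟨C, z, hz, rfl⟩ ⟨C', z', hz', rfl⟩
      refine ⟨C + C', z + z', add_mem hz hz', ?_⟩
      simp only [lin, Pi.add_apply, add_smul, Finset.sum_add_distrib]
      ring
    · rintro c x - ⟨C, z, hz, rfl⟩
      refine ⟨c • C, c • z, Submodule.smul_mem _ c hz, ?_⟩
      simp only [lin, Pi.smul_apply, smul_eq_mul, mul_smul, smul_add, Finset.smul_sum, mul_smul_comm]
  -- residues
  have hres : ∀ (R : _root_.FunFld.Place kb Kb) (hR : Below R P) (C : Fin _ → kb) (z' : Kb), z' ∈ B kb P →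
      R.1 (lin C + T * z' - algebraMap kb Kb (∑ j, C j * emb hKb hR (bF j))) < 1 := by
    intro R hR C z' hz'
    have hTR : R.1 T < 1 := (below_lt hR t).mpr htP
    rw [add_sub_right_comm]
    refine Valuation.map_add_lt _ ?_ (by rw [map_mul]; exact mul_lt_one_of_lt_of_le hTR (le_one_of_mem_B hR hz'))
    rw [map_sum, ← Finset.sum_sub_distrib]
    refine R.1.map_sum_lt one_ne_zero fun j _ => ?_
    rw [Algebra.smul_def, map_mul, ← mul_sub, map_mul]
    refine (mul_le_mul_left (R.2.1 _) _).trans_lt ?_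
    rw [one_mul, ← hb]
    exact emb_spec hKb hR (b j)
  have hunique : ∀ (R : _root_.FunFld.Place kb Kb) (x : Kb) (c d : kb),
      R.1 (x - algebraMap kb Kb c) < 1 → R.1 (x - algebraMap kb Kb d) < 1 → c = d := by
    intro R x c d hc hd
    by_contra hne
    have h1 := Valuation.map_sub_lt R.1 hc hd
    rw [sub_sub_sub_cancel_left, ← map_sub] at h1
    exact (Place.val_algebraMap R (sub_ne_zero.mpr (Ne.symm hne)) ▸ h1).false
  -- the square matrix of the embeddings is invertible
  have hcard : Fintype.card (ResidueField P.O →ₐ[k] kb) = Module.finrank k (ResidueField P.O) :=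
    AlgHom.card k (ResidueField P.O) kb
  let en := (Fintype.equivFinOfCardEq hcard).symm
  let M : Matrix (Fin (Module.finrank k (ResidueField P.O))) (Fin (Module.finrank k (ResidueField P.O))) kb :=
    Matrix.of fun i j => en i (bF j)
  have hrows : LinearIndependent kb M.row := by
    rw [Fintype.linearIndependent_iff]
    intro a ha i
    have hli := linearIndependent_algHom_toLinearMap k (ResidueField P.O) kb
    refine Fintype.linearIndependent_iff.mp (hli.comp en en.injective) a ?_ i
    refine bF.ext fun j => ?_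
    have := congrFun ha j
    change _ = (0 : kb)
    let evl : (ResidueField P.O →ₗ[k] kb) →+ kb :=
      { toFun := fun φ => φ (bF j), map_zero' := rfl, map_add' := fun _ _ => rfl }
    refine (map_sum evl _ _).trans ?_
    simp [M, Matrix.row] at this
    exact this
  have hM : IsUnit M := Matrix.linearIndependent_rows_iff_isUnit.mp hrows
  -- the idempotent
  obtain ⟨i₀, hi₀⟩ : ∃ i₀, en i₀ = emb hKb h := ⟨en.symm (emb hKb h), en.apply_symm_apply _⟩
  obtain ⟨E, hE⟩ := (Matrix.mulVec_surjective_iff_isUnit.mpr hM) (Pi.single i₀ 1)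
  set eB := lin E
  have hlinB : ∀ C, lin C ∈ B kb P := fun C => sum_mem fun j _ =>
    Submodule.smul_mem _ _ (Submodule.subset_span ⟨(b j : K), (b j).2, rfl⟩)
  have heR : ∀ (R : _root_.FunFld.Place kb Kb) (hR : Below R P),
      R.1 (eB - algebraMap kb Kb (if emb hKb hR = emb hKb h then 1 else 0)) < 1 := by
    intro R hR
    have h1 := hres R hR E 0 (zero_mem _)
    rw [mul_zero, add_zero] at h1
    convert h1 using 4
    obtain ⟨i, hi⟩ : ∃ i, en i = emb hKb hR := ⟨en.symm _, en.apply_symm_apply _⟩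
    have := congrFun hE i
    simp only [Matrix.mulVec, dotProduct, M, Matrix.of_apply, Pi.single_apply] at this
    rw [← hi, ← hi₀]
    simp only [en.injective.eq_iff]
    rw [← this]
    exact Finset.sum_congr rfl fun j _ => mul_comm _ _
  have hTR : Q.1 T < 1 ∧ Q'.1 T < 1 := ⟨(below_lt h t).mpr htP, (below_lt h' t).mpr htP⟩
  have hT0 : T ≠ 0 := by simpa [T] using ht0
  have main : ∀ (N : ℕ) (z : Kb), z ∈ B kb P → z ≠ 0 → Q.ord z ≤ N →
      ∃ n : ℕ, Q.1 z = Q.1 T ^ n ∧ Q'.1 z = Q'.1 T ^ n := by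
    intro N
    induction N using Nat.strong_induction_on with
    | _ N ih =>
    intro z hz hz0 hN
    obtain ⟨C, z', hz', rfl⟩ := hdec z hz
    set c := ∑ j, C j * emb hKb h (bF j) with hc
    have hQ := hres Q h C z' hz'
    have hQ' := hres Q' h' C z' hz'
    rw [← he] at hQ'
    by_cases hc0 : c = 0
    swap
    · have h1 : ∀ R : _root_.FunFld.Place kb Kb,
          R.1 (lin C + T * z' - algebraMap kb Kb c) < 1 → R.1 (lin C + T * z') = 1 := fun R hR => by
        exact (Valuation.map_eq_of_sub_lt _ (hR.trans_eq (Place.val_algebraMap R hc0).symm)).trans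
          (Place.val_algebraMap R hc0)
      exact ⟨0, by rw [pow_zero]; exact h1 Q hQ, by rw [pow_zero]; exact h1 Q' hQ'⟩
    rw [← hc, hc0, map_zero, sub_zero] at hQ
    obtain ⟨D, z₁, hz₁, hzD⟩ := hdec _ (mul_mem_B hz (hlinB E))
    have hD : D = 0 := by
      refine (Matrix.mulVec_injective_iff_isUnit.mpr hM) ?_
      rw [Matrix.mulVec_zero]
      funext i
      obtain ⟨R, hR, hRi⟩ := exists_emb_eq σ hK hgen hKb hσ P (en i)
      have h1 := hres R hR D z₁ hz₁
      rw [← hzD] at h1
      have h2 : R.1 ((lin C + T * z') * lin E - algebraMap kb Kb 0) < 1 := by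
        rw [map_zero, sub_zero, map_mul]
        by_cases hRe : emb hKb hR = emb hKb h
        · have h3 := hres R hR C z' hz'
          rw [hRe, ← hc, hc0, map_zero, sub_zero] at h3
          exact mul_lt_one_of_lt_of_le h3 (le_one_of_mem_B hR (hlinB E))
        · have h3 := heR R hR
          rw [if_neg hRe, map_zero, sub_zero] at h3
          rw [mul_comm]
          exact mul_lt_one_of_lt_of_le h3 (le_one_of_mem_B hR hz)
      have := hunique R _ _ _ h1 h2
      rw [hRi] at this
      simp only [Matrix.mulVec, dotProduct, M, Matrix.of_apply, Pi.zero_apply]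
      rw [← this]
      exact Finset.sum_congr rfl fun j _ => mul_comm _ _
    rw [hD] at hzD
    simp only [lin, Pi.zero_apply, zero_smul, Finset.sum_const_zero, zero_add] at hzD
    change (lin C + T * z') * eB = T * z₁ at hzD
    have heQ : Q.1 eB = 1 ∧ Q'.1 eB = 1 := by
      have h1 := heR Q h
      have h2 := heR Q' h'
      rw [if_pos rfl, map_one] at h1
      rw [if_pos he.symm, map_one] at h2
      refine ⟨?_, ?_⟩
      · exact (Valuation.map_eq_of_sub_lt _ (h1.trans_eq (map_one Q.1).symm)).trans (map_one _)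
      · exact (Valuation.map_eq_of_sub_lt _ (h2.trans_eq (map_one Q'.1).symm)).trans (map_one _)
    have hz₁0 : z₁ ≠ 0 := by
      rintro rfl
      rw [mul_zero, mul_eq_zero] at hzD
      rcases hzD with h0 | h0
      · exact hz0 h0
      · simp [h0] at heQ
    have e1 : Q.1 (lin C + T * z') = Q.1 T * Q.1 z₁ := by
      rw [← map_mul, ← hzD, map_mul, heQ.1, mul_one]
    have e2 : Q'.1 (lin C + T * z') = Q'.1 T * Q'.1 z₁ := by
      rw [← map_mul, ← hzD, map_mul, heQ.2, mul_one]
    have hord : Q.ord (lin C + T * z') = Q.ord T + Q.ord z₁ := by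
      rw [← Place.ord_mul Q hT0 hz₁0, Place.ord_def, Place.ord_def, map_mul, e1]
    have h0T : 0 < Q.ord T := (Place.ord_pos_iff Q).mpr ⟨hT0, hTR.1⟩
    have h0z : 0 ≤ Q.ord z₁ := (Place.val_le_one_iff Q).mp (le_one_of_mem_B h hz₁)
    obtain ⟨n, hn, hn'⟩ := ih (Q.ord z₁).toNat (by omega) z₁ hz₁ hz₁0 (by omega)
    exact ⟨n + 1, by rw [e1, hn, pow_succ'], by rw [e2, hn', pow_succ']⟩
  have hB : ∀ z : Kb, z ≠ 0 → ∃ n : ℤ, Q.1 z = Q.1 T ^ n ∧ Q'.1 z = Q'.1 T ^ n := by
    intro z hz0
    obtain ⟨N, hN⟩ : ∃ N : ℕ, T ^ N * z ∈ B kb P := by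
      have hz : z ∈ Algebra.adjoin K (Set.range (algebraMap kb Kb)) := hgen ▸ Algebra.mem_top
      have haK : ∀ a : K, ∃ N : ℕ, T ^ N * algebraMap K Kb a ∈ B kb P := fun a => by
        refine ⟨(-P.ord a).toNat, Submodule.subset_span ⟨t ^ (-P.ord a).toNat * a, ?_, by
          rw [map_mul, map_pow]⟩⟩
        change P.1 (t ^ (-P.ord a).toNat * a) ≤ 1
        rcases eq_or_ne a 0 with rfl | ha
        · simp
        · rw [map_mul, map_pow, ht, Place.val_eq_exp P ha, ← exp_nsmul, ← exp_add, ← exp_zero,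
            exp_le_exp, nsmul_eq_mul]
          omega
      have hlift : ∀ {x : Kb} {N M : ℕ}, N ≤ M → T ^ N * x ∈ B kb P → T ^ M * x ∈ B kb P := by
        intro x N M hle hx
        rw [← Nat.sub_add_cancel hle, pow_add, mul_assoc]
        refine mul_mem_B ?_ hx
        refine Submodule.subset_span ⟨t ^ (M - N), ?_, by rw [map_pow]⟩
        change P.1 (t ^ (M - N)) ≤ 1
        rw [map_pow]; exact pow_le_one' htP.le _
      induction hz using Algebra.adjoin_induction with
      | mem x hx =>
        obtain ⟨c, rfl⟩ := hx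
        refine ⟨0, ?_⟩
        rw [pow_zero, one_mul, Algebra.algebraMap_eq_smul_one c]
        exact Submodule.smul_mem _ c (Submodule.subset_span ⟨1, P.O.one_mem, map_one _⟩)
      | algebraMap a => exact haK a
      | add x y _ _ hx hy =>
        by_cases hx0 : x = 0
        · subst hx0
          rw [zero_add] at hz0 ⊢
          exact hy hz0
        by_cases hy0 : y = 0
        · subst hy0
          rw [add_zero] at hz0 ⊢
          exact hx hz0
        obtain ⟨N, hN⟩ := hx hx0
        obtain ⟨M, hM⟩ := hy hy0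
        exact ⟨max N M, by rw [mul_add]; exact add_mem (hlift (le_max_left _ _) hN) (hlift (le_max_right _ _) hM)⟩
      | mul x y _ _ hx hy =>
        obtain ⟨N, hN⟩ := hx (left_ne_zero_of_mul hz0)
        obtain ⟨M, hM⟩ := hy (right_ne_zero_of_mul hz0)
        exact ⟨N + M, by rw [pow_add, mul_mul_mul_comm]; exact mul_mem_B hN hM⟩
    have hne : T ^ N * z ≠ 0 := mul_ne_zero (pow_ne_zero _ hT0) hz0
    obtain ⟨n, hn, hn'⟩ := main (Q.ord (T ^ N * z)).toNat _ hN hne (Int.self_le_toNat _)
    refine ⟨(n : ℤ) - N, ?_, ?_⟩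
    · rw [map_mul, map_pow] at hn
      rw [zpow_sub₀ (Q.1.ne_zero_iff.mpr hT0), zpow_natCast, zpow_natCast, ← hn,
        mul_div_cancel_left₀ _ (pow_ne_zero _ (Q.1.ne_zero_iff.mpr hT0))]
    · rw [map_mul, map_pow] at hn'
      rw [zpow_sub₀ (Q'.1.ne_zero_iff.mpr hT0), zpow_natCast, zpow_natCast, ← hn',
        mul_div_cancel_left₀ _ (pow_ne_zero _ (Q'.1.ne_zero_iff.mpr hT0))]
  refine Place.place_ext_of_le_iff fun z => ?_
  rcases eq_or_ne z 0 with rfl | hz0
  · simp
  obtain ⟨n, hn, hn'⟩ := hB z hz0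
  have key : ∀ R : _root_.FunFld.Place kb Kb, R.1 T < 1 → (R.1 T ^ n ≤ 1 ↔ 0 ≤ n) := fun R hR => by
    have hne : R.1 T ≠ 0 := R.1.ne_zero_iff.mpr hT0
    generalize R.1 T = a at hR hne ⊢
    rw [← exp_log hne, ← exp_zero, exp_lt_exp] at hR
    rw [← exp_log hne, ← exp_zsmul, ← exp_zero, exp_le_exp, smul_eq_mul]
    constructor
    · intro h1; by_contra h2; nlinarith
    · intro h1; nlinarith
  rw [hn, hn', key Q hTR.1, key Q' hTR.2]

end Main

end Groth.Agent.Lib.FunFld.Zeta.Places
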