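import Groth.Agent.Lib.FunFld.Zeta.Newton
import Mathlib.Analysis.Complex.Polynomial.Basic
import Mathlib.Algebra.Polynomial.Reverse

/-! The reciprocal roots of the zeta numerator: absolute value `√q` and pairing. -/

namespace Groth.Agent.Lib.FunFld.Zeta.Roots

open Polynomial Groth.Agent.Lib.FunFld

variable {k K : Type*} [Field k] [Finite k] [Field K] [Algebra k K]

variable (k K) in
/-- The reversed numerator, a monic polynomial with the reciprocal roots as roots. -/
noncomputable def Rev : ℂ[X] := ((Basic.Lpoly k K).map (Int.castRingHom ℂ)).reverse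

variable (k K) in
/-- The reciprocal roots, with multiplicity. -/
noncomputable def M : Multiset ℂ := (Rev k K).roots

theorem natDegree_map (hK : FunFld.IsFunctionField k K) :
    ((Basic.Lpoly k K).map (Int.castRingHom ℂ)).natDegree = 2 * _root_.FunFld.genus k K := by
  rw [natDegree_map_eq_of_injective Int.cast_injective, Basic.natDegree_Lpoly hK]

theorem coeff_zero (hK : FunFld.IsFunctionField k K) :
    ((Basic.Lpoly k K).map (Int.castRingHom ℂ)).coeff 0 = 1 := by
  rw [coeff_map, Basic.coeff_Lpoly hK, Nat.cast_zero, Basic.c_zero hK, map_one]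

theorem natTrailingDegree_eq (hK : FunFld.IsFunctionField k K) :
    ((Basic.Lpoly k K).map (Int.castRingHom ℂ)).natTrailingDegree = 0 :=
  natTrailingDegree_eq_zero.mpr (Or.inr (by rw [coeff_zero hK]; exact one_ne_zero))

theorem natDegree_Rev (hK : FunFld.IsFunctionField k K) :
    (Rev k K).natDegree = 2 * _root_.FunFld.genus k K := by
  rw [Rev, reverse_natDegree, natTrailingDegree_eq hK, Nat.sub_zero, natDegree_map hK]

theorem monic_Rev (hK : FunFld.IsFunctionField k K) : (Rev k K).Monic := by
  rw [Monic, Rev, reverse_leadingCoeff, trailingCoeff, natTrailingDegree_eq hK, coeff_zero hK]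

omit [Finite k] in
theorem splits_Rev : (Rev k K).Splits := IsAlgClosed.splits _

theorem card_M (hK : FunFld.IsFunctionField k K) :
    Multiset.card (M k K) = 2 * _root_.FunFld.genus k K := by
  rw [M, ← (splits_Rev (k := k) (K := K)).natDegree_eq_card_roots, natDegree_Rev hK]

omit [Finite k] in
theorem reverse_linear (a : ℂ) : (X - C a).reverse = 1 - C a * X := by
  ext n
  rw [coeff_reverse, natDegree_X_sub_C]
  rcases n with _ | _ | n
  · simp [revAt_le]
  · simp [revAt_le, coeff_X, coeff_one]
  · rw [revAt_eq_self_of_lt (by omega)]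
    simp [coeff_X, coeff_one]

omit [Finite k] in
theorem reverse_prod (s : Multiset ℂ) :
    (s.map fun a => X - C a).prod.reverse = (s.map fun a => 1 - C a * X).prod := by
  induction s using Multiset.induction with
  | empty => simp [reverse]
  | cons a t ih =>
    rw [Multiset.map_cons, Multiset.prod_cons, reverse_mul_of_domain, ih, reverse_linear,
      Multiset.map_cons, Multiset.prod_cons]

omit [Finite k] in
theorem reverse_reverse' {f : ℂ[X]} (h : f.natTrailingDegree = 0) : f.reverse.reverse = f := by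
  ext n
  rw [coeff_reverse, coeff_reverse, reverse_natDegree, h, Nat.sub_zero, revAt_invol]

/-- `L(t) = ∏ (1 - α t)`. -/
theorem map_numerZ (hK : FunFld.IsFunctionField k K) :
    PowerSeries.map (Int.castRingHom ℂ) (_root_.FunFld.numerZ k K) =
      ((((M k K).map fun a => 1 - C a * X).prod : ℂ[X]) : PowerSeries ℂ) := by
  rw [← Basic.coe_Lpoly hK, ← polynomial_map_coe, ← reverse_prod, M,
    ← (splits_Rev (k := k) (K := K)).eq_prod_roots_of_monic (monic_Rev hK), Rev,
    reverse_reverse' (natTrailingDegree_eq hK)]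

theorem prod_M (hK : FunFld.IsFunctionField k K) :
    (M k K).prod = (Nat.card k : ℂ) ^ _root_.FunFld.genus k K := by
  have h := (splits_Rev (k := k) (K := K)).coeff_zero_eq_prod_roots_of_monic (monic_Rev hK)
  rw [natDegree_Rev hK, pow_mul, neg_one_sq, one_pow, one_mul] at h
  rw [M, ← h, Rev, coeff_zero_reverse, leadingCoeff, natDegree_map hK, coeff_map,
    Basic.coeff_Lpoly hK, Nat.cast_mul, Nat.cast_ofNat, Basic.c_top hK]
  simp

theorem isIntegral_of_mem (hK : FunFld.IsFunctionField k K) {a : ℂ} (ha : a ∈ M k K) :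
    IsIntegral ℤ a := by
  refine ⟨(Basic.Lpoly k K).reverse, ?_, ?_⟩
  · rw [Monic, reverse_leadingCoeff, trailingCoeff,
      natTrailingDegree_eq_zero.mpr (Or.inr (by
        rw [Basic.coeff_Lpoly hK, Nat.cast_zero, Basic.c_zero hK]; exact one_ne_zero)),
      Basic.coeff_Lpoly hK, Nat.cast_zero, Basic.c_zero hK]
  · have h0 : (Rev k K).eval a = 0 := (mem_roots (monic_Rev hK).ne_zero).mp ha
    have he : (Rev k K) = (Basic.Lpoly k K).reverse.map (algebraMap ℤ ℂ) := by
      rw [algebraMap_int_eq, Rev]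
      ext n
      rw [coeff_reverse, coeff_map, coeff_map, coeff_reverse,
        natDegree_map_eq_of_injective Int.cast_injective]
    rw [he, eval_map] at h0
    exact h0

theorem map_numerZ_fin (hK : FunFld.IsFunctionField k K) {n : ℕ} (α : Fin n → ℂ)
    (h : (List.ofFn α : Multiset ℂ) = M k K) :
    PowerSeries.map (Int.castRingHom ℂ) (_root_.FunFld.numerZ k K) =
      ((∏ i, (1 - C (α i) * X) : ℂ[X]) : PowerSeries ℂ) := by
  rw [map_numerZ hK, ← h, Multiset.map_coe, Multiset.prod_coe, List.map_ofFn, List.prod_ofFn]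
  rfl

theorem exists_fin (hK : FunFld.IsFunctionField k K) :
    ∃ α : Fin (2 * _root_.FunFld.genus k K) → ℂ, (List.ofFn α : Multiset ℂ) = M k K := by
  have h : (M k K).toList.length = 2 * _root_.FunFld.genus k K := by
    rw [Multiset.length_toList, card_M hK]
  refine ⟨fun i => (M k K).toList.get (i.cast h.symm), ?_⟩
  rw [← List.ofFn_congr h, List.ofFn_get, Multiset.coe_toList]

/-- Reciprocal roots have absolute value at most `√q`. -/
theorem norm_le (hK : FunFld.IsFunctionField k K) {β : ℂ} (hβ : β ∈ M k K) :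
    ‖β‖ ≤ Real.sqrt (Nat.card k) := by
  classical
  obtain ⟨n, α, hα, hmem⟩ : ∃ (n : ℕ) (α : Fin n → ℂ),
      (List.ofFn α : Multiset ℂ) = M k K ∧ ∃ i, α i = β := by
    obtain ⟨α, hα⟩ := exists_fin hK
    refine ⟨_, α, hα, ?_⟩
    rw [← hα, Multiset.mem_coe, List.mem_ofFn] at hβ
    exact hβ
  obtain ⟨C, hC⟩ := Count.exists_bound_Npts hK
  set q : ℝ := (Nat.card k : ℝ) with hq
  have hq0 : 0 < q := by rw [hq]; exact_mod_cast Nat.card_pos
  set r := Real.sqrt q with hr
  have hr0 : 0 < r := Real.sqrt_pos.mpr hq0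
  have hpow : ∀ m : ℕ, Real.sqrt (q ^ m) = r ^ m := fun m => by
    refine (Real.sqrt_eq_iff_eq_sq (pow_nonneg hq0.le m) (pow_nonneg hr0.le m)).mpr ?_
    rw [← pow_mul, mul_comm, pow_mul, hr, Real.sq_sqrt hq0.le]
  have hS : ∀ m : ℕ, 0 < m → ‖∑ i, α i ^ m‖ ≤ C * r ^ m := by
    intro m hm
    have h1 := Newton.npts_eq_sum hK α (map_numerZ_fin hK α hα) hm
    have h2 : ∑ i, α i ^ m = ((q ^ m + 1 - (Points.Npts k K m : ℝ) : ℝ) : ℂ) := by
      rw [hq]; push_cast; linear_combination h1
    rw [h2, Complex.norm_real, Real.norm_eq_abs, abs_sub_comm, ← hpow]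
    exact hC m hm
  let s : Finset ℂ := (Finset.univ.image α).erase β
  let P : ℂ[X] := ∏ γ ∈ s, (X - Polynomial.C γ)
  have hPβ : P.eval β ≠ 0 := by
    rw [eval_prod, Finset.prod_ne_zero_iff]
    intro γ hγ
    rw [eval_sub, eval_X, eval_C, sub_ne_zero]
    exact fun h => (Finset.mem_erase.mp hγ).1 h.symm
  set w : ℂ := ((Finset.univ.filter fun i => α i = β).card : ℂ) * P.eval β with hw
  have hw0 : w ≠ 0 := by
    obtain ⟨i, hi⟩ := hmem
    exact mul_ne_zero (Nat.cast_ne_zero.mpr (Finset.card_ne_zero.mpr ⟨i, by simp [hi]⟩)) hPβ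
  set B : ℝ := ∑ j ∈ Finset.range (P.natDegree + 1), ‖P.coeff j‖ * (C * r ^ j) with hB
  have key : ∀ m : ℕ, 0 < m → ‖β‖ ^ m * ‖w‖ ≤ B * r ^ m := by
    intro m hm
    have h1 : ∑ j ∈ Finset.range (P.natDegree + 1), P.coeff j * ∑ i, α i ^ (m + j) = β ^ m * w := by
      rw [hw, ← mul_assoc, mul_comm (β ^ m), mul_assoc, ← nsmul_eq_mul, ← Finset.sum_const,
        Finset.sum_filter]
      simp_rw [Finset.mul_sum]
      rw [Finset.sum_comm]
      refine Finset.sum_congr rfl fun i _ => ?_
      rw [show ∑ j ∈ Finset.range (P.natDegree + 1), P.coeff j * α i ^ (m + j) =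
        α i ^ m * P.eval (α i) by
          rw [eval_eq_sum_range, Finset.mul_sum]
          exact Finset.sum_congr rfl fun j _ => by rw [pow_add]; ring]
      split_ifs with h
      · rw [h]
      · rw [eval_prod, Finset.prod_eq_zero (i := α i)
          (Finset.mem_erase.mpr ⟨h, Finset.mem_image_of_mem α (Finset.mem_univ i)⟩) (by simp), mul_zero]
    rw [← norm_pow, ← norm_mul, ← h1, hB, Finset.sum_mul]
    refine (norm_sum_le _ _).trans (Finset.sum_le_sum fun j _ => ?_)
    rw [norm_mul, mul_assoc, mul_assoc, ← pow_add, add_comm j m]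
    exact mul_le_mul_of_nonneg_left (hS _ (by omega)) (norm_nonneg _)
  by_contra hlt
  have hlt' : 1 < ‖β‖ / r := (one_lt_div hr0).mpr (not_le.mp hlt)
  obtain ⟨m, hm⟩ := pow_unbounded_of_one_lt (B / ‖w‖) hlt'
  have hm' : B / ‖w‖ < (‖β‖ / r) ^ (m + 1) :=
    hm.trans_le (pow_le_pow_right₀ hlt'.le (Nat.le_succ m))
  rw [div_pow, div_lt_div_iff₀ (norm_pos_iff.mpr hw0) (by positivity)] at hm'
  have := key (m + 1) (by omega)
  linarith

/-- The Riemann hypothesis: reciprocal roots have absolute value `√q`. -/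
theorem norm_eq (hK : FunFld.IsFunctionField k K) {β : ℂ} (hβ : β ∈ M k K) :
    ‖β‖ = Real.sqrt (Nat.card k) := by
  classical
  refine le_antisymm (norm_le hK hβ) ?_
  by_contra hlt
  rw [not_le] at hlt
  obtain ⟨α, hα⟩ := exists_fin hK
  rw [← hα, Multiset.mem_coe, List.mem_ofFn] at hβ
  obtain ⟨i, rfl⟩ := hβ
  have hprod : ∏ j, ‖α j‖ = Real.sqrt (Nat.card k) ^ (2 * _root_.FunFld.genus k K) := by
    rw [← norm_prod, pow_mul, Real.sq_sqrt (Nat.cast_nonneg _)]
    have h := prod_M hK
    rw [← hα, Multiset.prod_coe, List.prod_ofFn] at h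
    rw [h, norm_pow, Complex.norm_natCast]
  have hpos : ∀ j, 0 < ‖α j‖ := fun j => by
    refine norm_pos_iff.mpr fun h => ?_
    rw [Finset.prod_eq_zero (Finset.mem_univ j) (by rw [h, norm_zero])] at hprod
    exact absurd hprod.symm (pow_ne_zero _ (Real.sqrt_ne_zero'.mpr (by exact_mod_cast Nat.card_pos)))
  refine absurd hprod (ne_of_lt ?_)
  rw [← Fin.prod_const]
  refine Finset.prod_lt_prod (fun j _ => hpos j) (fun j _ => norm_le hK ?_) ⟨i, Finset.mem_univ i, hlt⟩
  rw [← hα, Multiset.mem_coe, List.mem_ofFn]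
  exact ⟨j, rfl⟩

theorem mul_conj_eq (hK : FunFld.IsFunctionField k K) {β : ℂ} (hβ : β ∈ M k K) :
    β * (starRingEnd ℂ) β = (Nat.card k : ℂ) := by
  rw [Complex.mul_conj, Complex.normSq_eq_norm_sq, norm_eq hK hβ, Real.sq_sqrt (Nat.cast_nonneg _)]
  simp

omit [Finite k] in
theorem map_conj : (M k K).map (starRingEnd ℂ) = M k K := by
  have h := (splits_Rev (k := k) (K := K)).roots_map (starRingEnd ℂ)
  have e : (Rev k K).map (starRingEnd ℂ) = Rev k K := by
    ext n
    rw [coeff_map, Rev, coeff_reverse, coeff_map, eq_intCast, map_intCast]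
  rw [e] at h
  exact h.symm

omit [Finite k] in
theorem conj_mul_prod (s : Multiset ℂ) {q : ℂ} (h : ∀ x ∈ s, x * (starRingEnd ℂ) x = q) :
    s.prod * (s.map (starRingEnd ℂ)).prod = q ^ Multiset.card s := by
  induction s using Multiset.induction with
  | empty => simp
  | cons a t ih =>
    rw [Multiset.map_cons, Multiset.prod_cons, Multiset.prod_cons, Multiset.card_cons, pow_succ',
      ← ih fun x hx => h x (Multiset.mem_cons_of_mem hx)]
    linear_combination (t.prod * (t.map (starRingEnd ℂ)).prod) * h a (Multiset.mem_cons_self a t)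

/-- Half of the reciprocal roots. -/
theorem exists_half (hK : FunFld.IsFunctionField k K) :
    ∃ H : Multiset ℂ, M k K = H + H.map (starRingEnd ℂ) ∧
      Multiset.card H = _root_.FunFld.genus k K := by
  classical
  set q : ℝ := (Nat.card k : ℝ) with hq
  have hq0 : 0 < q := by rw [hq]; exact_mod_cast Nat.card_pos
  set s : ℂ := ((Real.sqrt q : ℝ) : ℂ) with hs
  have hs2 : s * s = (Nat.card k : ℂ) := by
    rw [hs, ← Complex.ofReal_mul, Real.mul_self_sqrt hq0.le, hq]; simp
  have hs0 : s ≠ 0 := Complex.ofReal_ne_zero.mpr (Real.sqrt_ne_zero'.mpr hq0)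
  let Mp := (M k K).filter fun x => 0 < x.im
  let Mn := (M k K).filter fun x => x.im < 0
  let Mr := (M k K).filter fun x => x.im = 0
  have hsplit : M k K = Mp + Mn + Mr := by
    ext x
    simp only [Multiset.count_add, Multiset.count_filter, Mp, Mn, Mr]
    rcases lt_trichotomy x.im 0 with h | h | h
    · simp [h, h.ne, h.le.not_gt]
    · simp [h]
    · simp [h, h.ne', h.le.not_gt]
  have hMn : Mn = Mp.map (starRingEnd ℂ) := by
    simp only [Mn, Mp]
    conv_lhs => rw [← map_conj (k := k) (K := K), Multiset.filter_map]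
    congr 1
    refine Multiset.filter_congr fun x _ => ?_
    simp
  have hreal : ∀ x ∈ Mr, x = s ∨ x = -s := by
    intro x hx
    rw [Multiset.mem_filter] at hx
    have := mul_conj_eq hK hx.1
    rw [Complex.conj_eq_iff_im.mpr hx.2, ← hs2] at this
    exact mul_self_eq_mul_self_iff.mp this
  set a := Multiset.count s Mr
  set b := Multiset.count (-s) Mr
  have hne : s ≠ -s := fun h => hs0 (by linear_combination h / 2)
  have hMr : Mr = Multiset.replicate a s + Multiset.replicate b (-s) := by
    ext x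
    rw [Multiset.count_add, Multiset.count_replicate, Multiset.count_replicate]
    rcases eq_or_ne s x with rfl | h1
    · rw [if_pos rfl, if_neg hne.symm, add_zero]
    rcases eq_or_ne (-s) x with rfl | h2
    · rw [if_neg h1, if_pos rfl, zero_add]
    rw [if_neg h1, if_neg h2, add_zero, Multiset.count_eq_zero]
    exact fun hx => (hreal x hx).elim (fun h => h1 h.symm) fun h => h2 h.symm
  have hcard := congrArg Multiset.card hsplit
  rw [card_M hK, hMn, hMr, Multiset.card_add, Multiset.card_add, Multiset.card_map, Multiset.card_add,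
    Multiset.card_replicate, Multiset.card_replicate] at hcard
  have hprod := congrArg Multiset.prod hsplit
  rw [prod_M hK, hMn, hMr, Multiset.prod_add, Multiset.prod_add, Multiset.prod_add,
    conj_mul_prod Mp (fun x hx => mul_conj_eq hK (Multiset.mem_of_mem_filter hx)),
    Multiset.prod_replicate, Multiset.prod_replicate, neg_pow] at hprod
  have hb : Even b := by
    rw [← neg_one_pow_eq_one_iff_even (R := ℂ) (by norm_num)]
    have h1 : ((Nat.card k : ℂ)) ^ _root_.FunFld.genus k K =
        (-1 : ℂ) ^ b * (Nat.card k : ℂ) ^ _root_.FunFld.genus k K := by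
      conv_lhs => rw [hprod]
      have h2 : (Nat.card k : ℂ) ^ _root_.FunFld.genus k K =
          (Nat.card k : ℂ) ^ Multiset.card Mp * (s ^ a * s ^ b) := by
        rw [← hs2, ← sq, ← pow_mul, ← pow_mul, ← pow_add, ← pow_add, hcard]
        congr 1
        omega
      rw [h2]; ring
    have hne0 : ((Nat.card k : ℂ)) ^ _root_.FunFld.genus k K ≠ 0 :=
      pow_ne_zero _ (Nat.cast_ne_zero.mpr Nat.card_pos.ne')
    exact mul_right_cancel₀ hne0 (by rw [one_mul]; exact h1.symm)
  obtain ⟨b', hb'⟩ := hb
  obtain ⟨a', ha'⟩ : ∃ a', a = a' + a' :=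
    ⟨_root_.FunFld.genus k K - Multiset.card Mp - b', by omega⟩
  refine ⟨Mp + (Multiset.replicate a' s + Multiset.replicate b' (-s)), ?_, ?_⟩
  · rw [hsplit, hMn, hMr, ha', hb', Multiset.map_add, Multiset.map_add, Multiset.map_replicate,
      Multiset.map_replicate, map_neg, hs, Complex.conj_ofReal, Multiset.replicate_add,
      Multiset.replicate_add]
    abel
  · rw [Multiset.card_add, Multiset.card_add, Multiset.card_replicate, Multiset.card_replicate]
    omega

/-- The reciprocal roots numbered so that `α i * α (rev i) = q`. -/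
theorem exists_paired (hK : FunFld.IsFunctionField k K) :
    ∃ α : Fin (2 * _root_.FunFld.genus k K) → ℂ, (List.ofFn α : Multiset ℂ) = M k K ∧
      ∀ i, α i * α (Fin.rev i) = (Nat.card k : ℂ) := by
  obtain ⟨H, hH, hc⟩ := exists_half hK
  set g := _root_.FunFld.genus k K with hg
  set L := H.toList with hL
  have hlen : L.length = g := by rw [hL, Multiset.length_toList, hc]
  set F := L ++ (L.map (starRingEnd ℂ)).reverse with hF
  have hFlen : F.length = 2 * g := by
    rw [hF, List.length_append, List.length_reverse, List.length_map, hlen]; omega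
  refine ⟨fun i => F.get (i.cast hFlen.symm), ?_, fun i => ?_⟩
  · rw [← List.ofFn_congr hFlen, List.ofFn_get, hH, hF, ← Multiset.coe_add, hL, Multiset.coe_toList,
      Multiset.coe_reverse, ← Multiset.map_coe, Multiset.coe_toList]
  · have hmem : ∀ (j : ℕ) (hj : j < L.length), L[j] ∈ M k K := fun j hj => by
      rw [hH]
      exact Multiset.mem_add.mpr (Or.inl (Multiset.mem_toList.mp (hL ▸ List.getElem_mem hj)))
    simp only [List.get_eq_getElem, Fin.val_cast, Fin.val_rev, hF]
    rcases lt_or_ge (i : ℕ) g with hi | hi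
    · rw [List.getElem_append_left (by omega), List.getElem_append_right (by omega),
        List.getElem_reverse, List.getElem_map]
      convert mul_conj_eq hK (hmem i (by omega)) using 4
      simp only [List.length_map]
      omega
    · rw [List.getElem_append_right (by omega), List.getElem_append_left (by omega),
        List.getElem_reverse, List.getElem_map, mul_comm]
      convert mul_conj_eq hK (hmem (2 * g - ((i : ℕ) + 1)) (by omega)) using 4
      simp only [List.length_map]
      omega

/-- `|N - q - 1| ≤ 2 g √q`. -/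
theorem abs_npts_sub_le (hK : FunFld.IsFunctionField k K) {m : ℕ} (hm : 0 < m) :
    |(Points.Npts k K m : ℝ) - (Nat.card k : ℝ) ^ m - 1| ≤
      2 * (_root_.FunFld.genus k K : ℝ) * Real.sqrt (Nat.card k : ℝ) ^ m := by
  obtain ⟨α, hα⟩ := exists_fin hK
  have h1 := Newton.npts_eq_sum hK α (map_numerZ_fin hK α hα) hm
  have h2 : ((((Points.Npts k K m : ℝ) - (Nat.card k : ℝ) ^ m - 1 : ℝ)) : ℂ) = -∑ i, α i ^ m := by
    push_cast; linear_combination h1
  rw [← Real.norm_eq_abs, ← Complex.norm_real, h2, norm_neg]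
  refine (norm_sum_le _ _).trans ?_
  rw [Finset.sum_congr rfl (g := fun _ => Real.sqrt (Nat.card k : ℝ) ^ m) fun i _ => by
    rw [norm_pow, norm_eq hK (hα ▸ Multiset.mem_coe.mpr (List.mem_ofFn.mpr ⟨i, rfl⟩))],
    Finset.sum_const, Finset.card_univ, Fintype.card_fin, nsmul_eq_mul]
  push_cast
  exact le_rfl

end Groth.Agent.Lib.FunFld.Zeta.Roots
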